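import Cfsg.Agent.E6Five.Elems
import Cfsg.Agent.Classical.AltEight
import Mathlib.LinearAlgebra.Matrix.Transvection

/-!
# The subgroup of type A3, isomorphic to the alternating group of degree eight
-/

set_option autoImplicit false
set_option maxRecDepth 100000

namespace Cfsg.Agent.E6Five

open Cfsg.Lie Cfsg.Agent.Chev Cfsg.Agent.E6Fi22
open scoped MatrixGroups

universe u

/-- The roots of an invariant block of dimension four. -/
def blkRoot : List Nat := [22, 30, 33, 67]

/-- The transvections induced on the block. -/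
def tv : List (Nat × Nat) := [(1, 0), (0, 1), (2, 1), (1, 2), (0, 3), (3, 0)]

/-- The column of a transvection on the block. -/
def tcol (a k : Nat) : Nat :=
  let e : Nat → Nat := fun j => 2 ^ (6 + blkRoot.getD j 0)
  if (tv.getD a (0, 0)).2 = k then Nat.xor (e k) (e (tv.getD a (0, 0)).1) else e k

/-- The letters of the six generators. -/
def lt6 : List Nat := [0, 1, 2, 3, 9, 10]

theorem blk_ok : ∀ a : Fin 6, ∀ k : Fin 4,
    (em (lt6.getD a 0)).getD (6 + blkRoot.getD k 0) 0 = tcol a k := by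
  decide +kernel

theorem fix_ok : ∀ a : Fin 6, (em (lt6.getD a 0)).getD 62 0 = 2 ^ 62 := by decide +kernel

theorem lt6_lt : ∀ a : Fin 6, lt6.getD a 0 < 14 := by decide +kernel

theorem blkRoot_lt : ∀ k : Fin 4, blkRoot.getD k 0 < chevE6.nroots := by decide +kernel

theorem blkRoot_inj : ∀ i j : Fin 4, blkRoot.getD i 0 = blkRoot.getD j 0 → i = j := by decide +kernel

theorem tv_lt : ∀ a : Fin 6, (tv.getD a (0, 0)).1 < 4 ∧ (tv.getD a (0, 0)).2 < 4 ∧
    (tv.getD a (0, 0)).1 ≠ (tv.getD a (0, 0)).2 := by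
  decide +kernel

/-- The coordinates of the block. -/
def bi (k : Fin 4) : chevE6.Idx := Sum.inr ⟨blkRoot.getD k 0, blkRoot_lt k⟩

theorem bi_inj : Function.Injective bi := fun i j e =>
  blkRoot_inj i j (congrArg Fin.val (Sum.inr.inj e))

/-- The transvections over the field with two elements. -/
def sT (a : Fin 6) : Matrix.SpecialLinearGroup (Fin 4) (ZMod 2) :=
  ⟨Matrix.transvection ⟨_, (tv_lt a).1⟩ ⟨_, (tv_lt a).2.1⟩ 1,
    Matrix.det_transvection_of_ne _ _ (fun e => (tv_lt a).2.2 (congrArg Fin.val e)) 1⟩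

/-- Words for the transvections. -/
def tword : List (List (Fin 6)) :=
  [[], [1], [1, 3, 1, 3], [4], [0], [], [3], [0, 4, 0, 4], [0, 2, 0, 2], [2], [],
    [0, 2, 0, 4, 0, 2, 0, 4], [5], [1, 5, 1, 5], [1, 3, 1, 5, 1, 3, 1, 5], []]

theorem tword_ok : ∀ i j : Fin 4, i ≠ j →
    ((tword.getD (4 * (i : ℕ) + j) []).map fun a => (sT a).1).prod =
      Matrix.transvection i j (1 : ZMod 2) := by
  decide +kernel

theorem sT_top : Subgroup.closure (Set.range sT) = ⊤ := by
  rw [eq_top_iff]
  rintro g -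
  suffices h : ∃ s ∈ Subgroup.closure (Set.range sT), s.1 = g.1 by
    obtain ⟨s, hs, e⟩ := h
    rwa [← show s = g from Subtype.ext e]
  refine Matrix.diagonal_transvection_induction_of_det_ne_zero
    (fun M => ∃ s ∈ Subgroup.closure (Set.range sT), s.1 = M) g.1 (by rw [g.2]; exact one_ne_zero) ?_ ?_ ?_
  · intro D hD
    refine ⟨1, one_mem _, ?_⟩
    rw [Matrix.det_diagonal, Finset.prod_ne_zero_iff] at hD
    rw [Matrix.SpecialLinearGroup.coe_one, ← Matrix.diagonal_one]
    congr 1
    funext i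
    exact ((by decide : ∀ x : ZMod 2, x ≠ 0 → 1 = x) _ (hD i (Finset.mem_univ i)))
  · rintro ⟨i, j, hij, c⟩
    rcases (by decide : ∀ x : ZMod 2, x = 0 ∨ x = 1) c with rfl | rfl
    · refine ⟨1, one_mem _, ?_⟩
      simp [Matrix.TransvectionStruct.toMatrix, Matrix.transvection]
    · refine ⟨((tword.getD (4 * (i : ℕ) + j) []).map sT).prod, ?_, ?_⟩
      · exact Subgroup.list_prod_mem _ fun y hy => by
          obtain ⟨a, -, rfl⟩ := List.mem_map.1 hy
          exact Subgroup.subset_closure ⟨a, rfl⟩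
      · rw [Matrix.TransvectionStruct.toMatrix, ← tword_ok i j hij]
        generalize tword.getD (4 * (i : ℕ) + j) [] = l
        induction l with
        | nil => rfl
        | cons a l ih =>
          rw [List.map_cons, List.prod_cons, List.map_cons, List.prod_cons,
            Matrix.SpecialLinearGroup.coe_mul, ih]
  · rintro A B - - ⟨s, hs, rfl⟩ ⟨s', hs', rfl⟩
    exact ⟨s * s', mul_mem hs hs', Matrix.SpecialLinearGroup.coe_mul _ _⟩

theorem zmod_two_pow : ∀ x : ZMod 2, x ^ 4 = 1 → x = 1 := by decide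

theorem sl_four_two :
    Nonempty (Matrix.SpecialLinearGroup (Fin 4) (ZMod 2) ≃* alternatingGroup (Fin 8)) := by
  haveI : Fact (Nat.Prime 2) := ⟨Nat.prime_two⟩
  obtain ⟨e⟩ := Classical.L34.psl_four_two (F := ZMod 2) (ZMod.card 2)
  have hz : Subgroup.center (Matrix.SpecialLinearGroup (Fin 4) (ZMod 2)) = ⊥ := by
    refine eq_bot_iff.2 fun g hg => ?_
    obtain ⟨r, hr, hs⟩ := Matrix.SpecialLinearGroup.mem_center_iff.1 hg
    have : r = 1 := by
      rw [Fintype.card_fin] at hr
      exact zmod_two_pow r hr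
    rw [this, map_one] at hs
    exact Subgroup.mem_bot.2 (Subtype.ext hs.symm)
  exact ⟨(((QuotientGroup.quotientMulEquivOfEq hz).trans QuotientGroup.quotientBot).symm).trans e⟩

variable {K : Type u} [Field K] [CharP K 2] {w : K} (hw : w ^ 2 = w + 1)

/-- The subgroup generated by the six root elements. -/
noncomputable def L6 : Subgroup (GL chevE6.Idx K) :=
  Subgroup.closure (Set.range fun a : Fin 6 => eu hw (lt6.getD a 0))

omit [CharP K 2] in
theorem val_two_pow (i k : Nat) (hk : k < 78) : val w (2 ^ k) i = if i = k then 1 else 0 := by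
  rw [val, Nat.testBit_two_pow, Nat.testBit_two_pow]
  by_cases h : i = k
  · subst h; simp
  · simp [Ne.symm h, show k ≠ 78 + i by omega, h]

theorem enc_inr (r : Fin chevE6.nroots) : enc chevE6 (Sum.inr r) = 6 + r := rfl

include hw in
theorem gen_apply (a : Fin 6) (x : chevE6.Idx) (k : Fin 4) :
    ((eu hw (lt6.getD a 0) : GL chevE6.Idx K) : Matrix chevE6.Idx chevE6.Idx K) x (bi k) =
      (if x = bi k then 1 else 0) +
        if (tv.getD a (0, 0)).2 = k ∧ x = bi ⟨_, (tv_lt a).1⟩ then 1 else 0 := by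
  have hn : chevE6.nroots = 72 := by decide +kernel
  have hlt : ∀ j : Fin 4, 6 + blkRoot.getD j 0 < 78 := fun j => by have := blkRoot_lt j; omega
  rw [eu_val hw (lt6_lt a)]
  show val w ((em (lt6.getD a 0)).getD (enc chevE6 (bi k)) 0) (enc chevE6 x) = _
  rw [bi, enc_inr, blk_ok a k]
  have heq : ∀ j : Fin 4, (enc chevE6 x = 6 + blkRoot.getD j 0) ↔ x = bi j := fun j =>
    ⟨fun e => enc_injective chevE6 (e.trans (enc_inr ⟨_, blkRoot_lt j⟩).symm), fun e => by rw [e]; rfl⟩
  have hb : (Sum.inr ⟨blkRoot.getD k 0, blkRoot_lt k⟩ : chevE6.Idx) = bi k := rfl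
  rw [hb]
  simp only [tcol]
  by_cases h1 : (tv.getD a (0, 0)).2 = k
  · rw [if_pos h1]
    change val w (Nat.xor (2 ^ (6 + blkRoot.getD k 0)) (2 ^ (6 + blkRoot.getD (tv.getD a (0, 0)).1 0))) _ = _
    rw [val_xor, val_two_pow _ _ (hlt k),
      val_two_pow _ _ (hlt ⟨_, (tv_lt a).1⟩)]
    exact congrArg₂ (· + ·) (if_congr (heq k) rfl rfl)
      (if_congr ((heq ⟨_, (tv_lt a).1⟩).trans ⟨fun e => ⟨h1, e⟩, And.right⟩) rfl rfl)
  · rw [if_neg h1, val_two_pow _ _ (hlt k), if_neg (show ¬ ((tv.getD a (0, 0)).2 = k ∧ x = bi ⟨_, (tv_lt a).1⟩) from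
      fun e => h1 e.1), add_zero]
    exact if_congr (heq k) rfl rfl

/-- Preservation of the block. -/
def Blk (g : GL chevE6.Idx K) : Prop :=
  ∀ (x : chevE6.Idx) (k : Fin 4), x ∉ Set.range bi → (g : Matrix chevE6.Idx chevE6.Idx K) x (bi k) = 0

/-- The block of a matrix. -/
def bmat (g : GL chevE6.Idx K) : Matrix (Fin 4) (Fin 4) K :=
  Matrix.of fun i j => (g : Matrix chevE6.Idx chevE6.Idx K) (bi i) (bi j)

omit [CharP K 2] in
theorem blk_mul {g h : GL chevE6.Idx K} (hh : Blk h) (x : chevE6.Idx) (k : Fin 4) :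
    ((g * h : GL chevE6.Idx K) : Matrix chevE6.Idx chevE6.Idx K) x (bi k) =
      ∑ j : Fin 4, (g : Matrix chevE6.Idx chevE6.Idx K) x (bi j) *
        (h : Matrix chevE6.Idx chevE6.Idx K) (bi j) (bi k) := by
  classical
  rw [Units.val_mul, Matrix.mul_apply]
  refine (Finset.sum_of_injOn bi (fun i _ j _ e => bi_inj e) (fun i _ => Finset.mem_coe.2 (Finset.mem_univ _))
    (fun y _ hy => ?_) (fun j _ => rfl)).symm
  rw [hh y k (fun ⟨j, e⟩ => hy ⟨j, Finset.mem_coe.2 (Finset.mem_univ _), e⟩), mul_zero]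

include hw in
theorem L6_blk {g : GL chevE6.Idx K} (hg : g ∈ L6 hw) : Blk g ∧ Blk g⁻¹ := by
  classical
  have hone : Blk (1 : GL chevE6.Idx K) := fun x k hx => by
    rw [Units.val_one, Matrix.one_apply_ne]
    exact fun e => hx ⟨k, e.symm⟩
  have hmul : ∀ {g h : GL chevE6.Idx K}, Blk g → Blk h → Blk (g * h) := fun hg hh x k hx => by
    rw [blk_mul hh]
    exact Finset.sum_eq_zero fun j _ => by rw [hg x j hx, zero_mul]
  induction hg using Subgroup.closure_induction with
  | mem g hg =>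
    obtain ⟨a, rfl⟩ := hg
    have hb : Blk (eu hw (lt6.getD a 0)) := fun x k hx => by
      rw [gen_apply hw, if_neg (fun e => hx ⟨k, e.symm⟩), if_neg (fun e => hx ⟨_, e.2.symm⟩), add_zero]
    have hi : (eu hw (lt6.getD a 0))⁻¹ = eu hw (lt6.getD a 0) := by
      rw [inv_eq_iff_mul_eq_one]
      apply Units.ext
      have := (List.all_eq_true.1 root_ok (la.getD a (0, 0))
        ((by decide +kernel : ∀ a : Fin 6, la.getD a (0, 0) ∈ la) a))
      rw [Bool.and_eq_true] at this
      have e1 : (la.getD a (0, 0)).1 = lt6.getD a 0 :=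
        (by decide +kernel : ∀ a : Fin 6, (la.getD a (0, 0)).1 = lt6.getD a 0) a
      have hr : (la.getD a (0, 0)).2 < chevE6.nroots :=
        (by decide +kernel : ∀ a : Fin 6, (la.getD a (0, 0)).2 < chevE6.nroots) a
      have hx := xChk_spec hw hr (Or.inl rfl) this.1
      rw [e1] at hx
      rw [Units.val_mul, eu_val hw (lt6_lt a), hx, Units.val_one]
      have h2 := congrArg Units.val (xG_mul facts_chevE6.{u} (la.getD a (0, 0)).2 (sval w 1) (sval w 1))
      rw [Units.val_mul, xG_val, xG_val] at h2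
      rw [h2, CharTwo.add_self_eq_zero, x_zero facts_chevE6.{u}]
    exact ⟨hb, hi.symm ▸ hb⟩
  | one => exact ⟨hone, by rw [inv_one]; exact hone⟩
  | mul g h _ _ hg hh => exact ⟨hmul hg.1 hh.1, by rw [mul_inv_rev]; exact hmul hh.2 hg.2⟩
  | inv g _ hg => exact ⟨hg.2, by rw [inv_inv]; exact hg.1⟩

/-- The representation on the block. -/
noncomputable def rep : ↥(L6 hw) →* GL (Fin 4) K :=
  MonoidHom.toHomUnits
    { toFun := fun g => bmat g.1
      map_one' := by
        ext i j
        simp [bmat, Matrix.one_apply, bi_inj.eq_iff]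
      map_mul' := fun g h => by
        ext i j
        exact blk_mul (L6_blk hw h.2).1 (bi i) j }

/-- The inclusion of the special linear group over the prime field. -/
noncomputable def inc : Matrix.SpecialLinearGroup (Fin 4) (ZMod 2) →* GL (Fin 4) K :=
  Matrix.SpecialLinearGroup.toGL.comp (Matrix.SpecialLinearGroup.map (ZMod.castHom (dvd_refl 2) K))

theorem inc_injective : Function.Injective (inc (K := K)) := fun g h e => by
  haveI : Fact (Nat.Prime 2) := ⟨Nat.prime_two⟩
  apply Subtype.ext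
  ext i j
  have e1 := congrArg (fun M : GL (Fin 4) K => (M : Matrix (Fin 4) (Fin 4) K) i j) e
  exact (ZMod.castHom (dvd_refl 2) K).injective e1

/-- The generators inside the subgroup. -/
noncomputable def lgen (a : Fin 6) : ↥(L6 hw) :=
  ⟨eu hw (lt6.getD a 0), Subgroup.subset_closure ⟨a, rfl⟩⟩

theorem rep_lgen (a : Fin 6) : rep hw (lgen hw a) = inc (sT a) := by
  apply Units.ext
  ext i j
  show ((eu hw (lt6.getD a 0) : GL chevE6.Idx K) : Matrix chevE6.Idx chevE6.Idx K) (bi i) (bi j) =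
    (ZMod.castHom (dvd_refl 2) K) ((Matrix.transvection (⟨_, (tv_lt a).1⟩ : Fin 4) ⟨_, (tv_lt a).2.1⟩ (1 : ZMod 2)) i j)
  rw [gen_apply hw, Matrix.transvection, Matrix.add_apply, map_add, Matrix.one_apply, Matrix.single_apply]
  simp only [bi_inj.eq_iff, Fin.ext_iff]
  split_ifs <;> simp_all

theorem rep_range : (rep hw).range = (inc (K := K)).range := by
  have htop : Subgroup.closure (Set.range (lgen hw)) = ⊤ := by
    refine eq_top_iff.2 fun g _ => ?_
    have h : L6 hw ≤ (Subgroup.closure (Set.range (lgen hw))).map (L6 hw).subtype := by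
      refine (Subgroup.closure_le _).2 ?_
      rintro _ ⟨a, rfl⟩
      exact ⟨lgen hw a, Subgroup.subset_closure ⟨a, rfl⟩, rfl⟩
    obtain ⟨g', hg', e⟩ := h g.2
    rwa [← show g' = g from Subtype.ext e]
  rw [MonoidHom.range_eq_map, MonoidHom.range_eq_map, ← htop, ← sT_top, MonoidHom.map_closure,
    MonoidHom.map_closure, ← Set.range_comp, ← Set.range_comp]
  exact congrArg _ (congrArg Set.range (funext fun a => rep_lgen hw a))

theorem card_sl42 : Nat.card (Matrix.SpecialLinearGroup (Fin 4) (ZMod 2)) = 20160 := by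
  obtain ⟨e⟩ := sl_four_two
  rw [Nat.card_congr e.toEquiv, nat_card_alternatingGroup, Nat.card_fin]
  rfl

/-- A subgroup of this type with at most 20160 elements is the alternating group of degree eight. -/
theorem L6_iso [Fintype K] (h : Nat.card ↥(L6 hw) ≤ 20160) :
    Nonempty (↥(L6 hw) ≃* alternatingGroup (Fin 8)) ∧ Nat.card ↥(L6 hw) = 20160 := by
  classical
  have hr : Nat.card ↥(rep hw).range = 20160 := by
    rw [rep_range, ← Nat.card_congr (MonoidHom.ofInjective inc_injective).toEquiv, card_sl42]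
  have hle : Nat.card ↥(rep hw).range ≤ Nat.card ↥(L6 hw) :=
    Nat.card_le_card_of_surjective _ (rep hw).rangeRestrict_surjective
  have hc : Nat.card ↥(L6 hw) = 20160 := le_antisymm h (hr ▸ hle)
  have hb := (rep hw).rangeRestrict_surjective.bijective_of_nat_card_le (by rw [hc, hr])
  obtain ⟨e⟩ := sl_four_two
  exact ⟨⟨((MulEquiv.ofBijective _ hb).trans (MulEquiv.subgroupCongr (rep_range hw))).trans
    ((MonoidHom.ofInjective inc_injective).symm.trans e)⟩, hc⟩

theorem L6_fix {g : GL chevE6.Idx K} (hg : g ∈ L6 hw) :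
    (g : Matrix chevE6.Idx chevE6.Idx K).mulVec (Pi.single (Sum.inr ⟨56, by decide +kernel⟩) 1) =
      Pi.single (Sum.inr ⟨56, by decide +kernel⟩) 1 := by
  set v : chevE6.Idx → K := Pi.single (Sum.inr ⟨56, by decide +kernel⟩) 1 with hv
  induction hg using Subgroup.closure_induction with
  | mem g hg =>
    obtain ⟨a, rfl⟩ := hg
    show (eu hw (lt6.getD a 0) : Matrix chevE6.Idx chevE6.Idx K).mulVec v = v
    rw [eu_val hw (lt6_lt a), hv, Matrix.mulVec_single_one]
    funext x
    show val w ((em (lt6.getD a 0)).getD (enc chevE6 (Sum.inr ⟨56, _⟩)) 0) (enc chevE6 x) = _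
    rw [enc_inr]
    change val w ((em (lt6.getD a 0)).getD 62 0) _ = _
    rw [fix_ok a, val_two_pow _ _ (by norm_num), Pi.single_apply]
    exact if_congr ⟨fun e => enc_injective chevE6 (e.trans rfl), fun e => by rw [e]; rfl⟩ rfl rfl
  | one => rw [Units.val_one, Matrix.one_mulVec]
  | mul g h _ _ hg hh => rw [Units.val_mul, ← Matrix.mulVec_mulVec, hh, hg]
  | inv g _ hg =>
    conv_lhs => rw [← hg, Matrix.mulVec_mulVec, ← Units.val_mul, inv_mul_cancel, Units.val_one, Matrix.one_mulVec]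

include hw in
theorem x_not_mem : eu hw 11 ∉ L6 hw := fun h => by
  have e := congrFun (L6_fix hw h) (Sum.inr ⟨56, by decide +kernel⟩)
  rw [eu_val hw (by norm_num), Matrix.mulVec_single_one, Pi.single_eq_same] at e
  change val w ((em 11).getD 62 0) 62 = 1 at e
  rw [Nat.eq_of_beq_eq_true x_moves] at e
  have h0 : val w (Nat.shiftLeft 1 21) 62 = 0 := by
    rw [val_one_shift w (by norm_num)]; rfl
  exact zero_ne_one (h0.symm.trans e)

end Cfsg.Agent.E6Five
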