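import Cfsg.Agent.E6Five.Torus
import Cfsg.Agent.Chev.CentralizerTorus

/-!
# The fixed points in the centraliser of the torus element: at most 100800
-/

set_option autoImplicit false
set_option maxRecDepth 100000

namespace Cfsg.Agent.E6Five

open Cfsg.Lie Cfsg.Agent.Chev
open scoped MatrixGroups

variable {E : Type} [Field E] (ζ : Eˣ) (hζ : orderOf ζ = 5)

/-- The parameters of the torus element. -/
def zt : Fin chevE6.rank → Eˣ := Pi.mulSingle n0 ζ * Pi.mulSingle n5 (ζ ^ 2)

theorem chiU_zt (r : ℕ) :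
    chiU (zt ζ) r = ζ ^ (chevE6.cartan 0 r + 2 * chevE6.cartan 5 r) := by
  rw [zt]
  simp only [chiU, Pi.mul_apply, mul_zpow, Finset.prod_mul_distrib]
  have h1 := chiU_mulSingle (n0 : Fin chevE6.rank).2 ζ r
  have h2 := chiU_mulSingle (n5 : Fin chevE6.rank).2 (ζ ^ 2) r
  simp only [chiU] at h1 h2
  rw [h1, h2, zpow_add, zpow_mul, zpow_ofNat]

include hζ in
theorem chiU_zt_eq_iff (r s : Fin chevE6.nroots) :
    chiU (zt ζ) (r : ℕ) = chiU (zt ζ) (s : ℕ) ↔ chiE (row r).2.2 = chiE (row s).2.2 := by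
  have e : ∀ r : Fin chevE6.nroots, chiE (row r).2.2 = (chevE6.cartan 0 r + 2 * chevE6.cartan 5 r) % 5 := by
    intro r
    have h := (tab_ok ⟨r, nroots_e6 ▸ r.2⟩).2
    rw [chiE, show (row r).2.2.getD 0 0 = _ from (h 0).2, show (row r).2.2.getD 5 0 = _ from (h 5).2]
    rfl
  rw [chiU_zt, chiU_zt, zpow_eq_zpow_iff_modEq, hζ, e, e]
  rfl

include hζ in
theorem chiU_zt_eq_one_iff (r : Fin chevE6.nroots) : chiU (zt ζ) (r : ℕ) = 1 ↔ IsP0 r := by
  have h := (tab_ok ⟨r, nroots_e6 ▸ r.2⟩).2
  rw [IsP0, chiE, show (row r).2.2.getD 0 0 = _ from (h 0).2, show (row r).2.2.getD 5 0 = _ from (h 5).2,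
    chiU_zt, ← orderOf_dvd_iff_zpow_eq_one, hζ]
  simp only [Nat.cast_ofNat, Int.dvd_iff_emod_eq_zero]
  rfl

/-- The positive roots with trivial character. -/
def pl : List ℕ := [39, 46, 47, 69, 70, 71]

theorem pl_facts : (∀ r : Fin chevE6.nroots, half chevE6 ≤ (r : ℕ) → IsP0 r → pl.idxOf (r : ℕ) < 6) ∧
    (∀ k : Fin 6, pl.getD k 0 < chevE6.nroots ∧ half chevE6 ≤ pl.getD k 0 ∧ IsP0 (pl.getD k 0)) ∧
    ∀ k : Fin 6, pl.idxOf (pl.getD k 0) = k := by
  decide +kernel

theorem idx_pl {r : ℕ} (h : pl.idxOf r < 6) : pl.getD (pl.idxOf r) 0 = r := by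
  have h' : pl.idxOf r < pl.length := h
  rw [List.getD_eq_getElem _ _ h', List.getElem_idxOf]

/-- The six roots made negative by an element. -/
abbrev Qset (idx : Fin 24) : Type :=
  {k : Fin 6 // (wordN idx).foldr (fun j s => chevE6.reflectRoot j s) (pl.getD k 0) < half chevE6}

theorem sum_count : ∑ idx : Fin 24, 2 ^ 6 * 5 * 2 ^ Fintype.card (Qset idx) = 100800 := by
  decide +kernel

/-- Zero or one. -/
def bit (b : Bool) : E := if b then 1 else 0

/-- Parameters of a product over the six roots. -/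
def tP (b : Fin 6 → Bool) : ℕ → E := fun r =>
  if h : pl.idxOf r < 6 then bit (b ⟨_, h⟩) else 0

/-- Parameters of a product over the roots made negative. -/
def tQ {idx : Fin 24} (b : Qset idx → Bool) : ℕ → E :=
  tP fun k => if h : _ then b ⟨k, h⟩ else false

theorem torus_left {u u' : GL chevE6.Idx E} {c c' : Fin chevE6.rank → Eˣ}
    (hu : u ∈ chevE6.posUnipotent E) (hu' : u' ∈ chevE6.posUnipotent E)
    (e : u * torusHom c = u' * torusHom c') : u = u' ∧ (torusHom c : GL chevE6.Idx E) = torusHom c' :=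
  posUnipotent_torus_unique facts_chevE6 hu hu' e

/-- The normal form with the given parameters. -/
noncomputable def dec (idx : Fin 24) (b : Fin 6 → Bool) (h : GL chevE6.Idx E) (b' : Qset idx → Bool) :
    GL chevE6.Idx E :=
  prodFrom facts_chevE6 (half chevE6) (tP b) * h * nWord facts_chevE6 (wordF idx) *
    prodFrom facts_chevE6 (half chevE6) (tQ b')

variable [CharP E 2] [Fintype E] (h16 : ∀ a : E, a ^ 16 = a)

omit [Fintype E] in
theorem τ_prodFrom {t : ℕ → E} (ht : ∀ r, t r = 0 ∨ IsP0 r) :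
    τ h16 (prodFrom facts_chevE6 (half chevE6) t) = prodFrom facts_chevE6 (half chevE6) fun r => t r ^ 2 := by
  rw [prodFrom, prodFrom, wordG, wordG, map_list_prod, List.map_map, List.map_map, List.map_map]
  refine congrArg List.prod (List.map_congr_left fun r hr => ?_)
  rw [List.mem_range'_1] at hr
  show τ h16 (xG facts_chevE6 r (t r)) = xG facts_chevE6 r (t r ^ 2)
  rcases ht r with h | h
  · rw [h, sq, mul_zero, xG_zero, map_one]
  · exact τ_x' h16 (by omega) h _

set_option maxHeartbeats 1000000 in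
include hζ in
/-- The bound. -/
theorem card_fixed_le (hcard : Fintype.card E = 16) :
    Nat.card {y : GL chevE6.Idx E // y ∈ chevE6.group E ∧
      y * torusHom (zt ζ) = torusHom (zt ζ) * y ∧ τ h16 y = y} ≤ 100800 := by
  classical
  have hF : Facts.{0} chevE6 := facts_chevE6
  haveI : Finite (H5 h16) := inferInstance
  have main : ∀ y : {y : GL chevE6.Idx E // y ∈ chevE6.group E ∧
      y * torusHom (zt ζ) = torusHom (zt ζ) * y ∧ τ h16 y = y}, ∃ p : Σ idx : Fin 24, (Fin 6 → Bool) × H5 h16 × (Qset idx → Bool),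
      dec p.1 p.2.1 (p.2.2.1 : GL chevE6.Idx E) p.2.2.2 = y.1 := by
    rintro ⟨g, hg, hgT, hfix⟩
    obtain ⟨b, hb, w, x, hx, e⟩ := exists_normalForm hF hg
    obtain ⟨u, hu, c, rfl⟩ := (mem_borel_iff hF).1 hb
    set T : GL chevE6.Idx E := torusHom (zt ζ) with hT
    set n : GL chevE6.Idx E := nWord hF w with hn
    obtain ⟨d, hd⟩ := CentTorus.exists_conj_torus hF (nWord_mem hF w) (zt ζ)⁻¹
    rw [map_inv, ← hT, ← hn] at hd
    have hnm : monPerm hF n = pWord hF w := monPerm_eq hF (isMon_nWord hF w)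
    have hzu : T * u * T⁻¹ ∈ chevE6.posUnipotent E :=
      (Subgroup.mem_normalizer_iff.1 (diagonal_le_normalizer hF (torusHom_mem hF (zt ζ))) u).1 hu
    have hzx : T * x * T⁻¹ ∈ uMinus hF (pWord hF w) := by
      have h : uMinus hF (pWord hF w) (F := E) ≤
          (uMinus hF (pWord hF w)).comap (MulAut.conj T).toMonoidHom := by
        refine (Subgroup.closure_le _).2 ?_
        rintro _ ⟨r, t, h1, h2, rfl⟩
        show T * xG hF r t * T⁻¹ ∈ uMinus hF _
        rw [hT, torusHom_conj hF (zt ζ) r.2, mul_inv_cancel_right]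
        exact Subgroup.subset_closure ⟨r, _, h1, h2, rfl⟩
      exact h hx
    have e' : u * torusHom c * n * x =
        T * u * T⁻¹ * torusHom (c * (zt ζ * d)) * n * (T * x * T⁻¹) := by
      rw [← e, show g = T * g * T⁻¹ by rw [← hgT, mul_inv_cancel_right], e, map_mul, map_mul, ← hT]
      have hcz : (torusHom c : GL chevE6.Idx E) * T = T * torusHom c :=
        ((Commute.all c (zt ζ)).map torusHom).eq
      calc T * (u * torusHom c * n * x) * T⁻¹
          = T * u * T⁻¹ * (T * torusHom c) * (n * T⁻¹) * (T * x * T⁻¹) := by group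
        _ = _ := by rw [← hcz, hd]; group
    obtain ⟨hb', hxx⟩ := (normalForm_unique hF hb
      (Subgroup.mul_mem _ (Subgroup.mem_sup_left hzu) (Subgroup.mem_sup_right (torusHom_mem hF _)))
      (nWord_mem hF w) (nWord_mem hF w) (hnm ▸ hx) (hnm ▸ hzx) e').2 rfl
    obtain ⟨hu', hc'⟩ := torus_left hu hzu hb'
    have hnT : n * T = T * n := by
      have h1 : (T : GL chevE6.Idx E) * torusHom d = 1 := by
        rw [map_mul, map_mul, ← hT] at hc'
        exact mul_eq_left.1 hc'.symm
      have h2 : n * T⁻¹ = T⁻¹ * n := by rw [hd, eq_inv_of_mul_eq_one_right h1]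
      calc n * T = T * (T⁻¹ * n) * T := by group
        _ = T * (n * T⁻¹) * T := by rw [h2]
        _ = T * n := by group
    have hπ : ∀ r : Fin chevE6.nroots, chiU (zt ζ) (pWord hF w r : ℕ) = chiU (zt ζ) (r : ℕ) :=
      fun r => CentTorus.chiU_conj hF (isMon_nWord hF w) hnT r
    obtain ⟨idx, hidx⟩ := exists_wordF hF (pWord_mem hF w) fun i =>
      (chiU_zt_eq_iff ζ hζ _ _).1 (hπ (sRoot hF i))
    -- replace the monomial part
    set N : GL chevE6.Idx E := nWord hF (wordF idx) with hN
    have hdd : n * N⁻¹ ∈ chevE6.diagonalSubgroup E := by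
      refine mem_diagonal_of_isMon_one hF
        (Subgroup.mul_mem _ (nWord_mem hF _) (Subgroup.inv_mem _ (nWord_mem hF _))) ?_
      have h := isMon_monPerm hF
        (Subgroup.mul_mem _ (nWord_mem hF w (F := E)) (Subgroup.inv_mem _ (nWord_mem hF (wordF idx) (F := E))))
      have : monPerm hF (n * N⁻¹) = 1 := by
        have := map_mul (monHom hF (F := E))
          (⟨_, nWord_mem hF w⟩ : ↥(chevE6.monomialSubgroup E)) (⟨_, nWord_mem hF (wordF idx)⟩)⁻¹
        rw [map_inv] at this
        change monPerm hF _ = monPerm hF _ * (monPerm hF _)⁻¹ at this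
        rw [show monPerm hF (n * N⁻¹) = _ from this, monPerm_eq hF (isMon_nWord hF _),
          monPerm_eq hF (isMon_nWord hF _), hidx, mul_inv_cancel]
      rwa [this] at h
    obtain ⟨a, ha⟩ := (mem_diagonal_iff hF).1 hdd
    have hg' : g = u * torusHom (c * a) * N * x := by
      rw [e, map_mul, ← mul_assoc u, ha, mul_assoc (u * torusHom c) _ N, inv_mul_cancel_right]
    -- the parameters
    obtain ⟨t, ht⟩ := (mem_posUnipotent_iff hF).1 hu
    obtain ⟨t', ht', hxt⟩ := CentTorus.uMinus_surj hF (pWord hF w) (isMon_nWord hF w (F := E)) x hx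
    have supp : ∀ (t : ℕ → E), T * prodFrom hF (half chevE6) t * T⁻¹ = prodFrom hF (half chevE6) t →
        ∀ r : Fin chevE6.nroots, half chevE6 ≤ (r : ℕ) → ¬ IsP0 r → t r = 0 := by
      intro t h r h1 h2
      rw [hT, torusHom_prodFrom hF (zt ζ) t _ _ rfl, mul_inv_cancel_right] at h
      have e := prodFrom_inj hF _ _ rfl le_rfl h r h1 r.2
      have hne : (chiU (zt ζ) r : E) - 1 ≠ 0 := sub_ne_zero.2 fun e' =>
        h2 ((chiU_zt_eq_one_iff ζ hζ r).1 (Units.ext e'))
      have e2 : ((chiU (zt ζ) r : E) - 1) * t r = 0 := by rw [sub_mul, one_mul, sub_eq_zero]; exact e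
      exact (mul_eq_zero.1 e2).resolve_left hne
    set s : ℕ → E := fun r => if pl.idxOf r < 6 then t r else 0 with hs
    set s' : ℕ → E := fun r => if pl.idxOf r < 6 then t' r else 0 with hs'
    have hus : u = prodFrom hF (half chevE6) s := by
      rw [ht]
      refine prodFrom_congr hF fun r h1 h2 => ?_
      by_cases hp : pl.idxOf r < 6
      · simp [hs, hp]
      · rw [hs]; simp only [hp, if_false]
        exact supp t (by rw [← ht]; exact hu'.symm) ⟨r, h2⟩ h1 fun h => hp (pl_facts.1 ⟨r, h2⟩ h1 h)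
    have hxs : x = prodFrom hF (half chevE6) s' := by
      rw [hxt]
      refine prodFrom_congr hF fun r h1 h2 => ?_
      by_cases hp : pl.idxOf r < 6
      · simp [hs', hp]
      · rw [hs']; simp only [hp, if_false]
        exact supp t' (by rw [← hxt]; exact hxx.symm) ⟨r, h2⟩ h1 fun h => hp (pl_facts.1 ⟨r, h2⟩ h1 h)
    have hP0 : ∀ (t : ℕ → E) (r : ℕ), (if pl.idxOf r < 6 then t r else 0) = 0 ∨ IsP0 r := by
      intro t r
      by_cases hp : pl.idxOf r < 6
      · exact Or.inr (idx_pl hp ▸ (pl_facts.2.1 ⟨_, hp⟩).2.2)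
      · exact Or.inl (if_neg hp)
    have hs'm : ∀ r : Fin chevE6.nroots, half chevE6 ≤ (r : ℕ) → ¬ (pWord hF (wordF idx) r : ℕ) < half chevE6 →
        s' r = 0 := by
      intro r h1 h2
      rw [hs']; simp only
      split_ifs
      · exact ht' r h1 (by rw [hidx]; exact h2)
      · rfl
    have hτx : τ h16 x ∈ uMinus hF (pWord hF (wordF idx)) := by
      rw [hxs, τ_prodFrom h16 (fun r => hP0 t' r), prodFrom]
      refine wordG_mem hF fun p hp => ?_
      obtain ⟨r, hr, rfl⟩ := List.mem_map.1 hp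
      rw [List.mem_range'_1] at hr
      have hr' : r < chevE6.nroots := by omega
      by_cases h : (pWord hF (wordF idx) ⟨r, hr'⟩ : ℕ) < half chevE6
      · exact Subgroup.subset_closure ⟨⟨r, hr'⟩, _, hr.1, h, rfl⟩
      · have h0 : s' r = 0 := hs'm ⟨r, hr'⟩ hr.1 h
        show xG hF r (s' r ^ 2) ∈ _
        rw [h0, sq, mul_zero, xG_zero]
        exact Subgroup.one_mem _
    have hτu : τ h16 u ∈ chevE6.posUnipotent E := by
      rw [hus, τ_prodFrom h16 (fun r => hP0 t r)]
      exact (mem_posUnipotent_iff hF).2 ⟨_, rfl⟩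
    have hNm : monPerm hF N = pWord hF (wordF idx) := monPerm_eq hF (isMon_nWord hF _)
    have hτg : u * torusHom (c * a) * N * x =
        τ h16 u * torusHom (τt h16 (c * a)) * N * τ h16 x := by
      rw [← τ_torus, ← hg']
      conv_lhs => rw [← hfix, hg']
      rw [map_mul, map_mul, map_mul, hN, τ_nWord]
    obtain ⟨hb2, hx2⟩ := (normalForm_unique hF
      (Subgroup.mul_mem _ (Subgroup.mem_sup_left hu) (Subgroup.mem_sup_right (torusHom_mem hF _)))
      (Subgroup.mul_mem _ (Subgroup.mem_sup_left hτu) (Subgroup.mem_sup_right (torusHom_mem hF _)))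
      (nWord_mem hF _) (nWord_mem hF _) (by rw [← hN, hNm, ← hidx]; exact hx) (by rw [← hN, hNm]; exact hτx)
      hτg).2 rfl
    obtain ⟨hu2, hc2⟩ := torus_left hu hτu hb2
    have hbit : ∀ (t : ℕ → E), (∀ r, t r = 0 ∨ IsP0 r) →
        τ h16 (prodFrom hF (half chevE6) t) = prodFrom hF (half chevE6) t →
        ∀ r, half chevE6 ≤ r → r < chevE6.nroots → t r = bit (decide (t r = 1)) := by
      intro t ht h r h1 h2
      rw [τ_prodFrom h16 ht] at h
      have e := prodFrom_inj hF _ _ rfl le_rfl h r h1 h2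
      have e2 : t r * (t r - 1) = 0 := by rw [mul_sub, mul_one, sub_eq_zero, ← sq]; exact e
      rcases mul_eq_zero.1 e2 with h3 | h3
      · simp [bit, h3]
      · simp [bit, sub_eq_zero.1 h3]
    have hsb := hbit s (fun r => hP0 t r) (by rw [← hus]; exact hu2.symm)
    have hsb' := hbit s' (fun r => hP0 t' r) (by rw [← hxs]; exact hx2.symm)
    refine ⟨⟨idx, fun k => decide (s (pl.getD k 0) = 1),
      ⟨torusHom (c * a), c * a, rfl, (τ_torus h16 _).trans hc2.symm⟩,
      fun k => decide (s' (pl.getD k.1 0) = 1)⟩, ?_⟩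
    dsimp only
    have eP : prodFrom hF (half chevE6) (tP fun k => decide (s (pl.getD k 0) = 1)) =
        prodFrom hF (half chevE6) s := prodFrom_congr hF fun r h1 h2 => by
      rw [tP]
      split_ifs with h
      · simp only [idx_pl h]
        exact (hsb r h1 h2).symm
      · rw [hs]; simp only [h, if_false]
    have eQ : prodFrom hF (half chevE6) (tQ (idx := idx) fun k => decide (s' (pl.getD k.1 0) = 1)) =
        prodFrom hF (half chevE6) s' := prodFrom_congr hF fun r h1 h2 => by
      rw [tQ, tP]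
      split_ifs with h h'
      · simp only [idx_pl h]
        exact (hsb' r h1 h2).symm
      · rw [hs'm ⟨r, h2⟩ h1 (by rw [wordF_foldr]; dsimp only at h'; rw [idx_pl h] at h'; exact h')]
        rfl
      · rw [hs']; simp only [h, if_false]
    rw [dec, eP, eQ, ← hN, hg', hus, hxs]
  choose enc henc using main
  have hinj : Function.Injective enc := fun y y' e => Subtype.ext (by rw [← henc y, ← henc y', e])
  refine (Nat.card_le_card_of_injective enc hinj).trans ?_
  rw [Nat.card_sigma, ← sum_count]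
  refine Finset.sum_le_sum fun idx _ => ?_
  rw [Nat.card_prod, Nat.card_prod, Nat.card_eq_fintype_card, Nat.card_eq_fintype_card (α := Qset idx → Bool),
    Fintype.card_fun, Fintype.card_fun, Fintype.card_fin, Fintype.card_bool, ← mul_assoc]
  exact Nat.mul_le_mul_right _ (Nat.mul_le_mul_left _ (card_H5 h16 hcard))

end Cfsg.Agent.E6Five
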