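import Cfsg.Agent.E6Five.Data

/-!
# Kernel checks: elements of order five of `2E6(2)`
-/

set_option autoImplicit false
set_option maxRecDepth 100000
set_option Elab.async false

namespace Cfsg.Agent.E6Five

open Cfsg.Agent.E6Fi22 Cfsg.Agent.CosetCert

/-- Two words in the elements give the same matrix. -/
noncomputable def eqW (u v : List Nat) : Bool :=
  wordK em u idM fun P => wordK em v idM fun Q => eqB P Q

theorem len_em : (List.range 15).all (fun x => (em x).length == 78) = true := by decide +kernel

theorem ew_ok : (List.range 12).all (fun x =>
    wordK bm (ew.getD x []) idM (fun P => eqB P (em x))) = true := by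
  decide +kernel

theorem sw_ok : (List.range 2).all (fun x =>
    wordK em (sw.getD x []) idM (fun P => eqB P (em (12 + x)))) = true := by
  decide +kernel

/-- The six root elements generating the subgroup of type A3, as letters with their roots. -/
def la : List (Nat × Nat) := [(0, 46), (1, 25), (2, 39), (3, 32), (9, 0), (10, 71)]

theorem root_ok : la.all (fun p => xChk p.2 1 (em p.1) && eqW [11, p.1] [p.1, 11]) = true := by
  decide +kernel

theorem five_ok : eqW [11, 11, 11, 11, 11] [] && eqW [12, 12, 12, 12, 12] [] &&
    eqW [13, 13, 13, 13, 13] [] && eqW [12, 13] [13, 12] = true := by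
  decide +kernel

theorem a_ne : eqB (em 12) idM = false := by decide +kernel

theorem x_moves : Nat.beq ((em 11).getD 62 0) (Nat.shiftLeft 1 21) = true := by decide +kernel

theorem fuse_ok : fw.all (fun p =>
    eqW (p.2.2 ++ [12]) (List.replicate p.1 12 ++ (List.replicate p.2.1 13 ++ p.2.2))) = true := by
  decide +kernel

theorem fuse_all : (List.range 5).all (fun i => (List.range 5).all fun j =>
    (Nat.beq i 0 && Nat.beq j 0) || fw.any fun p => Nat.beq p.1 i && Nat.beq p.2.1 j) = true := by
  decide +kernel

theorem letters_lt : (ew.all fun l => l.all fun i => Nat.blt i 12) = true ∧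
    (sw.all fun l => l.all fun i => Nat.blt i 12) = true ∧
    (fw.all fun p => p.2.2.all fun i => Nat.blt i 14) = true := by
  decide +kernel

end Cfsg.Agent.E6Five
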