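import Cfsg.Agent.E6Five.Elems
import Cfsg.Agent.E6Five.Bound
import Cfsg.Agent.Chev.Twist.E6Stmts
import Mathlib.FieldTheory.Finite.GaloisField
import Mathlib.GroupTheory.NoncommCoprod

/-!
# The centraliser of the element of order five has at most 100800 elements
-/

set_option autoImplicit false
set_option maxRecDepth 100000

namespace Cfsg.Agent.E6Five

open Cfsg.Lie Cfsg.Agent.Chev Cfsg.Agent.E6Fi22
open scoped MatrixGroups

universe u

theorem exists_omega {K : Type u} [Field K] [Fintype K] [CharP K 2] (hK : Fintype.card K = 4) :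
    ∃ w : K, w ^ 2 = w + 1 := by
  classical
  have hc : Fintype.card Kˣ = 3 := by rw [Fintype.card_units, hK]
  obtain ⟨x, hx⟩ : ∃ x : Kˣ, x ≠ 1 := Fintype.exists_ne_of_one_lt_card (by omega) 1
  have h3 : (x : K) ^ 3 = 1 := by
    rw [← Units.val_pow_eq_pow_val, ← Units.val_one, ← hc, pow_card_eq_one]
  refine ⟨x, ?_⟩
  have h := (mul_eq_zero.1 (show ((x : K) - 1) * ((x : K) ^ 2 + x + 1) = 0 by
    linear_combination h3)).resolve_left (sub_ne_zero.2 fun e => hx (Units.ext e))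
  linear_combination h - CharTwo.add_self_eq_zero (x : K) - CharTwo.add_self_eq_zero (1 : K)

/-- An extension with sixteen elements, an element of order five and the matching generator. -/
theorem exists_ext {K : Type u} [Field K] [Fintype K] [CharP K 2] (hK : Fintype.card K = 4) :
    ∃ (E : Type) (_ : Field E) (_ : Fintype E) (_ : CharP E 2) (f : K →+* E) (ζ : Eˣ) (w : K),
      Fintype.card E = 16 ∧ orderOf ζ = 5 ∧ w ^ 2 = w + 1 ∧ f w = (ζ : E) + ((ζ⁻¹ : Eˣ) : E) := by
  classical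
  haveI : Fact (Nat.Prime 2) := ⟨Nat.prime_two⟩
  let E := GaloisField 2 4
  haveI : Fintype E := Fintype.ofFinite E
  have hE : Fintype.card E = 16 := by
    rw [Fintype.card_eq_nat_card, GaloisField.card 2 4 (by norm_num)]
    norm_num
  letI : Algebra (ZMod 2) K := ZMod.algebra K 2
  have h2 : Module.finrank (ZMod 2) K = 2 := by
    have := FiniteField.pow_finrank_eq_card 2 K
    rw [hK, show (4 : ℕ) = 2 ^ 2 by norm_num] at this
    exact Nat.pow_right_injective le_rfl this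
  obtain ⟨f⟩ := FiniteField.nonempty_algHom_of_finrank_dvd (F := ZMod 2) (K := K) (L := E)
    (by rw [h2, GaloisField.finrank 2 (by norm_num : (4 : ℕ) ≠ 0)]; norm_num)
  haveI : Fact (Nat.Prime 5) := ⟨by norm_num⟩
  obtain ⟨ζ, hζ⟩ := exists_prime_orderOf_dvd_card (G := Eˣ) 5 (by rw [Fintype.card_units, hE]; norm_num)
  obtain ⟨w₀, hw₀⟩ := exists_omega hK
  haveI : CharP E 2 := inferInstance
  set z : E := (ζ : E) with hz
  set zi : E := ((ζ⁻¹ : Eˣ) : E) with hzi
  have hzz : z * zi = 1 := by rw [hz, hzi]; exact ζ.mul_inv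
  have h5 : z ^ 5 = 1 := by rw [hz, ← Units.val_pow_eq_pow_val, ← hζ, pow_orderOf_eq_one]; rfl
  have hz1 : z - 1 ≠ 0 := sub_ne_zero.2 fun e => by
    rw [show ζ = 1 from Units.ext e, orderOf_one] at hζ; norm_num at hζ
  have hsum : z ^ 4 + z ^ 3 + z ^ 2 + z + 1 = 0 :=
    (mul_eq_zero.1 (show (z - 1) * (z ^ 4 + z ^ 3 + z ^ 2 + z + 1) = 0 by linear_combination h5)).resolve_left hz1
  have hroot : (z + zi) ^ 2 = (z + zi) + 1 := by
    have hz0 : z ≠ 0 := left_ne_zero_of_mul_eq_one hzz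
    refine mul_left_cancel₀ (pow_ne_zero 2 hz0) ?_
    linear_combination hsum + (2 * z ^ 2 + z * zi + 1 - z) * hzz - CharTwo.add_self_eq_zero (z ^ 3 + z)
  have hw₀' : f w₀ ^ 2 = f w₀ + 1 := by rw [← map_pow, hw₀, map_add, map_one]
  have hpr : (z + zi - f w₀) * (z + zi - (f w₀ + 1)) = 0 := by
    linear_combination hroot + hw₀' - CharTwo.add_self_eq_zero ((z + zi) * f w₀)
      + CharTwo.add_self_eq_zero (f w₀ + 1)
  rcases mul_eq_zero.1 hpr with h | h
  · exact ⟨E, inferInstance, inferInstance, inferInstance, f.toRingHom, ζ, w₀, hE, hζ, hw₀, (sub_eq_zero.1 h).symm⟩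
  · refine ⟨E, inferInstance, inferInstance, inferInstance, f.toRingHom, ζ, w₀ + 1, hE, hζ, ?_, ?_⟩
    · linear_combination hw₀ + CharTwo.add_self_eq_zero w₀
    · show f (w₀ + 1) = _
      rw [map_add, map_one]; exact (sub_eq_zero.1 h).symm

variable {E : Type} [Field E] [CharP E 2]

/-- The two commuting rank-one subgroups. -/
noncomputable def pair : Matrix.SpecialLinearGroup (Fin 2) E × Matrix.SpecialLinearGroup (Fin 2) E →* GL chevE6.Idx E :=
  MonoidHom.noncommCoprod hom1 hom6 hom1_hom6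

theorem pair_apply (a b : Matrix.SpecialLinearGroup (Fin 2) E) : pair (a, b) = hom1 a * hom6 b := rfl

/-- Lower unitriangular element. -/
def lowS (b : E) : Matrix.SpecialLinearGroup (Fin 2) E := ⟨!![1, 0; b, 1], by simp [Matrix.det_fin_two]⟩

theorem end_vals : chevE6.simple 0 = 56 ∧ chevE6.neg 56 = 15 ∧ chevE6.simple 5 = 36 ∧ chevE6.neg 36 = 35 :=
  end_facts.1

theorem pair_upper (a b : E) :
    pair (SL2Data.upper a, SL2Data.upper b) = xG facts_chevE6 56 a * xG facts_chevE6 36 b := by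
  rw [pair_apply, hom1, hom6, SL2Data.hom_upper _ _ a rfl, SL2Data.hom_upper _ _ b rfl]
  show xG facts_chevE6 (chevE6.simple 0) a * xG facts_chevE6 (chevE6.simple 5) b = _
  rw [end_vals.1, end_vals.2.2.1]

theorem pair_lower (a b : E) :
    pair (lowS a, lowS b) = xG facts_chevE6 15 a * xG facts_chevE6 35 b := by
  rw [pair_apply, hom1, hom6, SL2Data.hom_lower _ _ a rfl, SL2Data.hom_lower _ _ b rfl]
  show xG facts_chevE6 (chevE6.neg (chevE6.simple 0)) a * xG facts_chevE6 (chevE6.neg (chevE6.simple 5)) b = _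
  rw [end_vals.1, end_vals.2.2.1, end_vals.2.1, end_vals.2.2.2]

/-- A diagonal element. -/
def diagS (a : Eˣ) : Matrix.SpecialLinearGroup (Fin 2) E :=
  ⟨!![(a : E), 0; 0, ((a⁻¹ : Eˣ) : E)], by simp [Matrix.det_fin_two]⟩

theorem hom_diag (i : Fin chevE6.rank) (a : Eˣ) :
    (sl2Simple facts_chevE6 i).hom (diagS a) = torusHom (Pi.mulSingle i a) := by
  show (sl2Simple facts_chevE6 i).bruhat (a : E) 0 0 ((a⁻¹ : Eˣ) : E) = _
  rw [SL2Data.bruhat, if_pos rfl, mul_zero, SL2Data.X_zero, one_mul]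
  rw [SL2Data.h_of_ne _ a.ne_zero, show Units.mk0 (a : E) a.ne_zero = a from Units.ext rfl]
  show torusHom (coH (chevE6.simple i) a) = _
  rw [coH_simple facts_chevE6 i.2]

theorem pair_diag (a b : Eˣ) :
    pair (diagS a, diagS b) = torusHom (Pi.mulSingle n0 a * Pi.mulSingle n5 b) := by
  rw [pair_apply, hom1, hom6, hom_diag, hom_diag, map_mul]

variable {K : Type u} [Field K] [CharP K 2] (f : K →+* E) {w : K} (hw : w ^ 2 = w + 1)

theorem gmap_bu : (∀ x ∈ [4, 5, 6, 7], x < 12) ∧ (bw.getD 4 []).map (fun i => xs.getD i (0, 0)) = [(56, 1), (36, 1)] ∧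
    (bw.getD 5 []).map (fun i => xs.getD i (0, 0)) = [(56, 2), (36, 3)] ∧
    (bw.getD 6 []).map (fun i => xs.getD i (0, 0)) = [(15, 1), (35, 1)] ∧
    ew.getD 11 [] = [4, 6, 4, 5] := by
  decide +kernel

include hw in
theorem gmap_x : gmap chevE6 f (eu hw 11) =
    pair (SL2Data.weyl * SL2Data.upper (f w), SL2Data.weyl * SL2Data.upper (f w ^ 2)) := by
  obtain ⟨-, h4, h5, h6, h11⟩ := gmap_bu
  have e : ∀ x ∈ [4, 5, 6], gmap chevE6 f (bu hw x) = wordG facts_chevE6
      (((bw.getD x []).map fun i => xs.getD i (0, 0)).map fun p => (p.1, f (sval w p.2))) := fun x hx => by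
    rw [bu_eq_wordG hw (show x < 12 by fin_cases hx <;> omega), gmap_wordG facts_chevE6 facts_chevE6,
      List.map_map]
    rfl
  have s1 : sval w 1 = 1 := by simp [sval, Nat.testBit_succ]
  have s2 : sval w 2 = w := by simp [sval, Nat.testBit_succ]
  have s3 : sval w 3 = w ^ 2 := by simp [sval, Nat.testBit_succ, hw, add_comm]
  rw [eu, if_pos (by norm_num : (11 : ℕ) < 12), h11]
  simp only [List.map_cons, List.map_nil, List.prod_cons, List.prod_nil, mul_one, map_mul,
    e 4 (by decide), e 5 (by decide), e 6 (by decide), h4, h5, h6, wordG, s1, s2, s3, map_one, map_pow]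
  rw [← pair_upper (1 : E) 1, ← pair_lower (1 : E) 1, ← pair_upper (f w) (f w ^ 2), ← map_mul, ← map_mul,
    ← map_mul]
  have hW : SL2Data.upper (1 : E) * lowS 1 * SL2Data.upper 1 = SL2Data.weyl := by
    apply Subtype.ext
    rw [Matrix.SpecialLinearGroup.coe_mul, Matrix.SpecialLinearGroup.coe_mul]
    ext a b
    fin_cases a <;> fin_cases b <;>
      simp [SL2Data.upper, lowS, SL2Data.weyl, Matrix.mul_apply, Fin.sum_univ_two, CharTwo.neg_eq,
        CharTwo.add_self_eq_zero]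
  congr 1
  simp only [Prod.mk_mul_mk, ← mul_assoc, hW]

theorem fixed_facts : (∀ r ∈ [e6p2, e6m2, e6p4, e6m4],
      ∃ h : r < chevE6.nroots, (e6_flip_ρ ⟨r, h⟩ : ℕ) = r) ∧
    ∀ p ∈ [(e6p1, e6p6), (e6m1, e6m6), (e6p3, e6p5), (e6m3, e6m5)],
      ∃ (h : p.1 < chevE6.nroots) (h' : p.2 < chevE6.nroots),
        (e6_flip_ρ ⟨p.1, h⟩ : ℕ) = p.2 ∧ (e6_flip_ρ ⟨p.2, h'⟩ : ℕ) = p.1 ∧
        p.2 ≠ chevE6.neg p.1 ∧ (chevE6.commTerms p.1 p.2).isEmpty = true := by
  decide +kernel

theorem gmap_fixed (h16 : ∀ a : E, a ^ 16 = a) (h4 : ∀ a : K, a ^ 4 = a) {g : GL chevE6.Idx K}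
    (hg : g ∈ twistedE6 K 2) : (tw h16).σ (gmap chevE6 f g) = gmap chevE6 f g := by
  refine ((Subgroup.closure_le _).2 ?_ :
    twistedE6 K 2 ≤ MonoidHom.eqLocus ((tw h16).σ.comp (gmap chevE6 f)) (gmap chevE6 f)) hg
  rintro g ⟨l, hl, e⟩
  have hg' : g = wordG facts_chevE6.{u} l := Units.ext (e.trans (wordG_val _ l).symm)
  show (tw h16).σ (gmap chevE6 f g) = gmap chevE6 f g
  rw [hg', gmap_wordG facts_chevE6.{u} facts_chevE6.{0}]
  rcases hl with ⟨t, ht, r, hr, rfl⟩ | ⟨t, p, hp, rfl⟩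
  · obtain ⟨h, hρ⟩ := fixed_facts.1 r hr
    simp only [List.map_cons, List.map_nil, wordG, List.prod_cons, List.prod_nil, mul_one]
    have := σ_x_two h16 ⟨r, h⟩ (f t)
    rw [hρ, ← map_pow, ht] at this
    exact this
  · obtain ⟨h, h', hρ, hρ', hn, hc⟩ := fixed_facts.2 p hp
    simp only [List.map_cons, List.map_nil, wordG, List.prod_cons, List.prod_nil, mul_one, map_mul]
    have e1 := σ_x_two h16 ⟨p.1, h⟩ (f t)
    have e2 := σ_x_two h16 ⟨p.2, h'⟩ (f (t ^ 2))
    rw [hρ] at e1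
    rw [hρ', ← map_pow, ← pow_mul, h4] at e2
    rw [show (tw h16).σ (xG facts_chevE6 p.1 (f t)) = _ from e1,
      show (tw h16).σ (xG facts_chevE6 p.2 (f (t ^ 2))) = _ from e2, ← map_pow]
    exact (xG_commute_of facts_chevE6 h h' (Or.inr ⟨hn, List.isEmpty_iff.1 hc⟩) _ _).eq

theorem twisted_le_group : twistedE6 K 2 ≤ chevE6.group K := by
  refine (Subgroup.closure_le _).2 ?_
  rintro g ⟨l, -, e⟩
  rw [show g = wordG facts_chevE6.{u} l from Units.ext (e.trans (wordG_val _ l).symm)]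
  exact wordG_mem _ fun p _ => xG_mem_group _ _ _

variable [Fintype K] [Fintype E] (ζ : Eˣ)

include hw in
theorem card_cent_le (hK : Fintype.card K = 4) (hE : Fintype.card E = 16) (hζ : orderOf ζ = 5)
    (hf : f w = (ζ : E) + ((ζ⁻¹ : Eˣ) : E)) :
    Nat.card {g : GL chevE6.Idx K // g ∈ twistedE6 K 2 ∧ g * eu hw 11 = eu hw 11 * g} ≤ 100800 := by
  classical
  have h16 : ∀ a : E, a ^ 16 = a := fun a => by rw [← hE]; exact FiniteField.pow_card a
  have h4 : ∀ a : K, a ^ 4 = a := fun a => by rw [← hK]; exact FiniteField.pow_card a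
  have h5 : (ζ : E) ^ 5 = 1 := by rw [← Units.val_pow_eq_pow_val, ← hζ, pow_orderOf_eq_one]; rfl
  set z : E := (ζ : E) with hz
  set zi : E := ((ζ⁻¹ : Eˣ) : E) with hzi
  have hzz : z * zi = 1 := ζ.mul_inv
  have hz4 : zi = z ^ 4 := mul_left_cancel₀ ζ.ne_zero (by rw [← hz, hzz, ← pow_succ', h5])
  have hw5 : (1 + z) ^ 5 = z + zi := by
    rw [hz4]
    have h2 : (1 + z) ^ 4 = 1 + z ^ 4 := by
      rw [show 4 = 2 * 2 from rfl, pow_mul, CharTwo.add_sq, CharTwo.add_sq, one_pow, one_pow, ← pow_mul]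
    rw [pow_succ, h2]
    linear_combination h5 + CharTwo.add_self_eq_zero (1 : E)
  have hw3 : (z + zi) ^ 3 = 1 := by
    rw [← hf, ← map_pow, E6Fi22.w_cube hw, map_one]
  have h2 : (2 : E) = 0 := CharTwo.two_eq_zero
  set lam : E := (1 + z) ^ 2 with hlam
  let c1 : Matrix.SpecialLinearGroup (Fin 2) E :=
    ⟨!![lam, lam ^ 4; lam * z, lam ^ 4 * zi], by
      rw [Matrix.det_fin_two]
      simp only [Matrix.cons_val', Matrix.cons_val_zero, Matrix.cons_val_one, Matrix.empty_val',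
        Matrix.cons_val_fin_one, Matrix.of_apply]
      have : lam ^ 5 * (z + zi) = 1 := by
        rw [hlam, ← pow_mul, mul_comm 2 5, pow_mul, hw5, ← pow_succ, hw3]
      rw [CharTwo.sub_eq_add]
      linear_combination this⟩
  have hg : SL2Data.weyl * SL2Data.upper (f w) * c1 = c1 * diagS ζ := by
    apply Subtype.ext
    simp only [Matrix.SpecialLinearGroup.coe_mul]
    ext a b
    fin_cases a <;> fin_cases b <;>
      simp [c1, SL2Data.upper, SL2Data.weyl, diagS, Matrix.mul_apply, Fin.sum_univ_two, CharTwo.neg_eq,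
        hf, ← hz, ← hzi]
    · linear_combination lam * hzz + lam * CharTwo.add_self_eq_zero (z * z) + lam * CharTwo.add_self_eq_zero (1 : E)
        - (z ^ 2 + 2 * z ^ 3 + z ^ 4) * h2
    · linear_combination lam ^ 4 * hzz + lam ^ 4 * CharTwo.add_self_eq_zero (zi * zi) + lam ^ 4 * CharTwo.add_self_eq_zero (1 : E)
        - zi ^ 2 * (1 + z) ^ 8 * h2
  have hsqx : sqM (SL2Data.weyl * SL2Data.upper (f w)) = SL2Data.weyl * SL2Data.upper (f w ^ 2) := by
    rw [map_mul]
    congr 1 <;> (apply Subtype.ext; ext a b)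
    · show sq2 E ((SL2Data.weyl (F := E)).1 a b) = _
      fin_cases a <;> fin_cases b <;> simp [SL2Data.weyl, sq2_apply, CharTwo.neg_eq]
    · show sq2 E ((SL2Data.upper (f w)).1 a b) = _
      fin_cases a <;> fin_cases b <;> simp [SL2Data.upper, sq2_apply]
  have hsqd : sqM (diagS ζ) = diagS (ζ ^ 2) := by
    apply Subtype.ext; ext a b
    show sq2 E ((diagS ζ).1 a b) = _
    fin_cases a <;> fin_cases b <;> simp [diagS, sq2_apply, inv_pow]
  set C : GL chevE6.Idx E := pair (c1, sqM c1) with hC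
  have hCx : C⁻¹ * gmap chevE6 f (eu hw 11) * C = torusHom (zt ζ) := by
    rw [gmap_x f hw, mul_assoc, inv_mul_eq_iff_eq_mul, hC, zt, ← pair_diag, ← map_mul, ← map_mul,
      ← hsqx, ← hsqd, Prod.mk_mul_mk, Prod.mk_mul_mk, hg, ← map_mul, hg, map_mul]
  have hc4 : sqM (sqM c1) = c1 * SL2Data.weyl := by
    have hl16 : lam ^ 16 = lam := h16 _
    apply Subtype.ext
    rw [Matrix.SpecialLinearGroup.coe_mul]
    ext a b
    show sq2 E (sq2 E (c1.1 a b)) = _
    have hz16 : zi ^ 4 = z := by rw [hz4, ← pow_mul]; linear_combination (z ^ 11 + z ^ 6 + z) * h5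
    fin_cases a <;> fin_cases b <;>
      simp [c1, SL2Data.weyl, sq2_apply, Matrix.mul_apply, Fin.sum_univ_two, CharTwo.neg_eq, ← pow_mul, mul_pow,
        hl16, hz16, ← hz4]
  have hCS : (tw h16).σ C = C * nS facts_chevE6 0 := by
    have hn : (nS facts_chevE6 0 : GL chevE6.Idx E) = pair (SL2Data.weyl, 1) := by
      rw [pair_apply, map_one, mul_one]
      exact (SL2Data.toFun_weyl (sl2Simple facts_chevE6 n0)).symm
    rw [hn, hC, ← map_mul, Prod.mk_mul_mk, mul_one, ← hc4, pair_apply, map_mul, σ_hom1, σ_hom6,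
      pair_apply]
    exact (hom1_hom6 _ _).eq.symm
  refine le_trans (Nat.card_le_card_of_injective
    (fun g => (⟨C⁻¹ * gmap chevE6 f g.1 * C, ?_, ?_, ?_⟩ :
      {y : GL chevE6.Idx E // y ∈ chevE6.group E ∧
        y * torusHom (zt ζ) = torusHom (zt ζ) * y ∧ τ h16 y = y})) ?_) (card_fixed_le ζ hζ h16 hE)
  · have hCm : C ∈ chevE6.group E := by
      rw [hC, pair_apply]
      have key : ∀ (i : Fin chevE6.rank) (m : Matrix.SpecialLinearGroup (Fin 2) E),
          (sl2Simple facts_chevE6 i).hom m ∈ chevE6.group E := fun i m => by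
        have hm : m ∈ Submonoid.closure (Set.range (SL2Data.upper (F := E)) ∪ {SL2Data.weyl}) := by
          rw [SL2Data.closure_generators]; exact Submonoid.mem_top _
        induction hm using Submonoid.closure_induction with
        | mem x hx =>
          rcases hx with ⟨b, rfl⟩ | rfl
          · show (sl2Simple facts_chevE6 i).toFun (SL2Data.upper b) ∈ _
            rw [SL2Data.toFun_upper]; exact xG_mem_group facts_chevE6 _ _
          · show (sl2Simple facts_chevE6 i).toFun SL2Data.weyl ∈ _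
            rw [SL2Data.toFun_weyl]
            exact Subgroup.mul_mem _ (Subgroup.mul_mem _ (xG_mem_group facts_chevE6 _ _) (xG_mem_group facts_chevE6 _ _)) (xG_mem_group facts_chevE6 _ _)
        | one => rw [map_one]; exact one_mem _
        | mul x y _ _ hx hy => rw [map_mul]; exact mul_mem hx hy
      exact mul_mem (key n0 _) (key n5 _)
    exact mul_mem (mul_mem (inv_mem hCm) (gmap_mem_group facts_chevE6 facts_chevE6 f (twisted_le_group g.2.1))) hCm
  · rw [← hCx]
    have e := congrArg (gmap chevE6 f) g.2.2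
    rw [map_mul, map_mul] at e
    calc C⁻¹ * gmap chevE6 f g.1 * C * (C⁻¹ * gmap chevE6 f (eu hw 11) * C)
        = C⁻¹ * (gmap chevE6 f g.1 * gmap chevE6 f (eu hw 11)) * C := by group
      _ = C⁻¹ * (gmap chevE6 f (eu hw 11) * gmap chevE6 f g.1) * C := by rw [e]
      _ = _ := by group
  · rw [τ_apply, map_mul, map_mul, map_inv, hCS, gmap_fixed f h16 h4 g.2.1]
    group
  · intro g g' e
    have e' := congrArg Subtype.val e
    simp only [mul_left_inj, mul_right_inj] at e'
    exact Subtype.ext (gmap_injective f e')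

end Cfsg.Agent.E6Five
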