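import Cfsg.Agent.E6Five.Check
import Cfsg.Agent.E6Fi22.Rep
import Cfsg.Agent.Chev.All
import Cfsg.Agent.Chev.Unipotent

/-!
# The elements of order five as elements of `2E6(2)`
-/

set_option autoImplicit false
set_option maxRecDepth 100000

namespace Cfsg.Agent.E6Five

open Cfsg.Lie Cfsg.Agent.Chev Cfsg.Agent.E6Fi22
open scoped MatrixGroups

universe u

variable {K : Type u} [Field K] [CharP K 2] {w : K} (hw : w ^ 2 = w + 1)

theorem good_em : Good em := good_of (n := 14) len_em fun x hx => by
  simp only [em]; rw [List.getD_eq_default _ _ (by simpa using hx)]; rfl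

include hw in
theorem bm_word_mat {x : Nat} (hx : x < 12) :
    toMat w (bm x) = chevE6.wordMat K
      (((bw.getD x []).map fun i => xs.getD i (0, 0)).map fun p => (p.1, sval w p.2)) := by
    have h := List.all_eq_true.1 bm_ok x (List.mem_range.2 hx)
    rw [Bool.and_eq_true] at h
    obtain ⟨hi, -⟩ := bw_shape x (List.mem_range.2 hx)
    rw [wordB_spec hw good_xm h.1, ChevalleyDatum.wordMat, List.map_map, List.map_map]
    exact congrArg List.prod (List.map_congr_left fun i hi' => xm_spec hw (hi i hi'))

include hw in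
theorem bu_eq_wordG {x : Nat} (hx : x < 12) :
    bu hw x = wordG facts_chevE6.{u}
      (((bw.getD x []).map fun i => xs.getD i (0, 0)).map fun p => (p.1, sval w p.2)) :=
  Units.ext (by rw [bu_val hw hx, wordG_val]; exact bm_word_mat hw hx)

/-- The elements. -/
noncomputable def eu (x : Nat) : GL chevE6.Idx K :=
  if x < 12 then ((ew.getD x []).map (bu hw)).prod
  else ((sw.getD (x - 12) []).map fun y => ((ew.getD y []).map (bu hw)).prod).prod

theorem eu_mem (x : Nat) : eu hw x ∈ twistedE6 K 2 := by
  have h : ∀ l : List Nat, (l.map (bu hw)).prod ∈ twistedE6 K 2 := fun l =>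
    Subgroup.list_prod_mem _ fun g hg => by
      obtain ⟨i, -, rfl⟩ := List.mem_map.1 hg
      exact bu_mem hw i
  unfold eu
  split
  · exact h _
  · refine Subgroup.list_prod_mem _ fun g hg => ?_
    obtain ⟨i, -, rfl⟩ := List.mem_map.1 hg
    exact h _

theorem mem_getD_all {L : List (List Nat)} {p : Nat → Bool} (h : (L.all fun l => l.all p) = true) (x : Nat) :
    ∀ i ∈ L.getD x [], p i = true := by
  intro i hi
  by_cases hx : x < L.length
  · rw [List.getD_eq_getElem _ _ hx] at hi
    exact List.all_eq_true.1 (List.all_eq_true.1 h _ (List.getElem_mem hx)) i hi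
  · rw [List.getD_eq_default _ _ (Nat.not_lt.1 hx)] at hi
    simp at hi

theorem eu_val_low {x : Nat} (hx : x < 12) :
    (eu hw x : Matrix chevE6.Idx chevE6.Idx K) = toMat w (em x) := by
  rw [eu, if_pos hx, wordB_spec hw good_bm (List.all_eq_true.1 ew_ok x (List.mem_range.2 hx)),
    ← Units.coeHom_apply, map_list_prod, List.map_map]
  exact congrArg List.prod (List.map_congr_left fun i hi =>
    bu_val hw (Nat.le_of_ble_eq_true (mem_getD_all letters_lt.1 x i hi)))

theorem eu_val {x : Nat} (hx : x < 14) :
    (eu hw x : Matrix chevE6.Idx chevE6.Idx K) = toMat w (em x) := by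
  by_cases h : x < 12
  · exact eu_val_low hw h
  · obtain ⟨y, rfl⟩ : ∃ y, x = 12 + y := ⟨x - 12, by omega⟩
    rw [eu, if_neg h, wordB_spec hw good_em (List.all_eq_true.1 sw_ok y (List.mem_range.2 (by omega))),
      ← Units.coeHom_apply, map_list_prod, List.map_map, Nat.add_sub_cancel_left]
    refine congrArg List.prod (List.map_congr_left fun i hi => ?_)
    have hi' := Nat.le_of_ble_eq_true (mem_getD_all letters_lt.2.1 y i hi)
    have h2 := eu_val_low hw (x := i) hi'
    rw [eu, if_pos (show i < 12 from hi')] at h2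
    exact h2

theorem eqW_spec {u v : List Nat} (hu : ∀ i ∈ u, i < 14) (hv : ∀ i ∈ v, i < 14) (h : eqW u v = true) :
    (u.map (eu hw)).prod = (v.map (eu hw)).prod := by
  have e : ∀ l : List Nat, (∀ i ∈ l, i < 14) →
      (((l.map (eu hw)).prod : GL chevE6.Idx K) : Matrix chevE6.Idx chevE6.Idx K) =
        (l.map fun i => toMat w (em i)).prod := fun l hl => by
    rw [← Units.coeHom_apply, map_list_prod, List.map_map]
    exact congrArg List.prod (List.map_congr_left fun i hi => eu_val hw (hl i hi))
  obtain ⟨P, hP, hPm, hPk⟩ := wordK_spec hw good_em u idM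
    (fun P => wordK em v idM fun Q => eqB P Q) idM_length
  obtain ⟨Q, hQ, hQm, hQk⟩ := wordK_spec hw good_em v idM (fun Q => eqB P Q) idM_length
  rw [eqW, hPk, hQk] at h
  apply Units.ext
  rw [e u hu, e v hv, ← one_mul (List.prod _), ← toMat_idM w, ← hPm, ← eqB_spec _ _ h, hQm,
    toMat_idM, one_mul]

end Cfsg.Agent.E6Five
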