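import Cfsg.Agent.E6Five.Conj
import Cfsg.Agent.E6Five.Block
import Mathlib.GroupTheory.Sylow

/-!
# The elements of order five of `2E6(2)`
-/

set_option autoImplicit false
set_option maxRecDepth 100000

namespace Cfsg.Agent.E6Five

open Cfsg.Lie Cfsg.Agent.Chev Cfsg.Agent.E6Fi22
open scoped MatrixGroups

universe u

/-- The order formula. -/
theorem card_twisted {K : Type u} [Field K] [Fintype K] (hK : Fintype.card K = 4) :
    3 * Nat.card ↥(twistedE6 K 2) =
      2 ^ 36 * (2 ^ 2 - 1) * (2 ^ 5 + 1) * (2 ^ 6 - 1) * (2 ^ 8 - 1) * (2 ^ 9 + 1) * (2 ^ 12 - 1) := by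
  obtain ⟨φ, hφ, h2, hqφ, e⟩ := exists_twistE6 (K := K) (q := 2) (Nat.prime_two.isPrimePow)
    (by rw [hK]; norm_num)
  rw [← e]
  exact e6_card_G1 φ hφ hqφ h2 (by rw [hK]; norm_num)

theorem not_dvd_card {K : Type u} [Field K] [Fintype K] (hK : Fintype.card K = 4) :
    ¬ 5 ^ 3 ∣ Nat.card ↥(twistedE6 K 2) := fun h => by
  have := dvd_mul_of_dvd_right h 3
  rw [card_twisted hK] at this
  norm_num at this

/-- The isomorphism of centralisers of conjugate elements. -/
theorem centralizer_equiv {G : Type*} [Group G] {x y : G} (h : IsConj x y) :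
    Nonempty (↥(Subgroup.centralizer ({x} : Set G)) ≃* ↥(Subgroup.centralizer ({y} : Set G))) := by
  obtain ⟨c, rfl⟩ := isConj_iff.1 h
  refine ⟨((MulAut.conj c).subgroupMap _).trans (MulEquiv.subgroupCongr ?_)⟩
  ext g
  rw [Subgroup.mem_map, Subgroup.mem_centralizer_singleton_iff]
  constructor
  · rintro ⟨g', hg', rfl⟩
    rw [Subgroup.mem_centralizer_singleton_iff] at hg'
    show c * g' * c⁻¹ * (c * x * c⁻¹) = c * x * c⁻¹ * (c * g' * c⁻¹)
    rw [show c * g' * c⁻¹ * (c * x * c⁻¹) = c * (g' * x) * c⁻¹ by group, hg']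
    group
  · intro hg
    refine ⟨c⁻¹ * g * c, Subgroup.mem_centralizer_singleton_iff.2 ?_, by show c * _ * c⁻¹ = g; group⟩
    calc c⁻¹ * g * c * x = c⁻¹ * (g * (c * x * c⁻¹)) * c := by group
      _ = c⁻¹ * (c * x * c⁻¹ * g) * c := by rw [hg]
      _ = x * (c⁻¹ * g * c) := by group

variable {K : Type u} [Field K] [CharP K 2] {w : K} (hw : w ^ 2 = w + 1)

theorem eu_pow (i n : Nat) : ((List.replicate n i).map (eu hw)).prod = eu hw i ^ n := by
  rw [List.map_replicate, List.prod_replicate]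

include hw in
theorem relations :
    eu hw 11 ^ 5 = 1 ∧ eu hw 12 ^ 5 = 1 ∧ eu hw 13 ^ 5 = 1 ∧
      Commute (eu hw 12) (eu hw 13) ∧ ∀ a : Fin 6, Commute (eu hw 11) (eu hw (lt6.getD a 0)) := by
  have h := five_ok
  simp only [Bool.and_eq_true] at h
  obtain ⟨⟨⟨h1, h2⟩, h3⟩, h4⟩ := h
  refine ⟨?_, ?_, ?_, ?_, fun a => ?_⟩
  · rw [← eu_pow hw 11 5]
    exact eqW_spec hw (by decide) (by decide) h1
  · rw [← eu_pow hw 12 5]
    exact eqW_spec hw (by decide) (by decide) h2
  · rw [← eu_pow hw 13 5]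
    exact eqW_spec hw (by decide) (by decide) h3
  · have := eqW_spec hw (u := [12, 13]) (v := [13, 12]) (by decide) (by decide) h4
    simpa [Commute, SemiconjBy] using this
  · have hm := List.all_eq_true.1 root_ok (la.getD a (0, 0))
      ((by decide +kernel : ∀ a : Fin 6, la.getD a (0, 0) ∈ la) a)
    rw [Bool.and_eq_true,
      (by decide +kernel : ∀ a : Fin 6, (la.getD a (0, 0)).1 = lt6.getD a 0) a] at hm
    have := eqW_spec hw (u := [11, lt6.getD a 0]) (v := [lt6.getD a 0, 11])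
      (by intro i hi; have := lt6_lt a; simp only [List.mem_cons, List.not_mem_nil, or_false] at hi; rcases hi with rfl | rfl <;> omega)
      (by intro i hi; have := lt6_lt a; simp only [List.mem_cons, List.not_mem_nil, or_false] at hi; rcases hi with rfl | rfl <;> omega) hm.2
    simpa [Commute, SemiconjBy] using this

include hw in
theorem a_ne_one : eu hw 12 ≠ 1 := fun e => by
  have h := a_ne
  have e1 : toMat w (em 12) = toMat w idM := by
    rw [← eu_val hw (by norm_num), e, Units.val_one, toMat_idM]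
  have key : (List.range 78).any (fun c => (List.range 78).any fun r =>
      ((em 12).getD c 0).testBit r && !(idM.getD c 0).testBit r && !((em 12).getD c 0).testBit (78 + r)
        && !(idM.getD c 0).testBit (78 + r)) = true := by decide +kernel
  simp only [List.any_eq_true, List.mem_range, Bool.and_eq_true, Bool.not_eq_true'] at key
  obtain ⟨c, hc, r, hr, ⟨⟨h1, h2⟩, h3⟩, h4⟩ := key
  have hsur : ∀ n, n < 78 → ∃ i : chevE6.Idx, enc chevE6 i = n := by
    intro n hn
    by_cases h6 : n < 6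
    · exact ⟨Sum.inl ⟨n, h6⟩, rfl⟩
    · exact ⟨Sum.inr ⟨n - 6, by rw [nroots_e6]; omega⟩, by
        show 6 + (n - 6) = n; omega⟩
  obtain ⟨i, rfl⟩ := hsur r hr
  obtain ⟨j, rfl⟩ := hsur c hc
  have e2 : val w ((em 12).getD (enc chevE6 j) 0) (enc chevE6 i) = val w (idM.getD (enc chevE6 j) 0) (enc chevE6 i) :=
    congrFun (congrFun e1 i) j
  rw [val, val, h1, h2, h3, h4] at e2
  simp at e2

include hw in
theorem conj_facts : ∀ i < 5, ∀ j < 5, ¬ (i = 0 ∧ j = 0) →
    ∃ g ∈ twistedE6 K 2, g * eu hw 12 = eu hw 12 ^ i * eu hw 13 ^ j * g := by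
  intro i hi j hj hij
  have h := fuse_all
  simp only [List.all_eq_true, List.mem_range, Bool.or_eq_true, Bool.and_eq_true, List.any_eq_true] at h
  rcases h i hi j hj with ⟨e1, e2⟩ | ⟨p, hp, e1, e2⟩
  · exact absurd ⟨Nat.eq_of_beq_eq_true e1, Nat.eq_of_beq_eq_true e2⟩ hij
  obtain rfl := Nat.eq_of_beq_eq_true e1
  obtain rfl := Nat.eq_of_beq_eq_true e2
  have hl : ∀ x ∈ p.2.2, x < 14 := fun x hx =>
    Nat.le_of_ble_eq_true (List.all_eq_true.1 (List.all_eq_true.1 letters_lt.2.2 p hp) x hx)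
  have := eqW_spec hw
    (u := p.2.2 ++ [12]) (v := List.replicate p.1 12 ++ (List.replicate p.2.1 13 ++ p.2.2))
    (by
      intro x hx
      simp only [List.mem_append, List.mem_singleton] at hx
      rcases hx with hx | rfl
      · exact hl x hx
      · omega)
    (by
      intro x hx
      simp only [List.mem_append, List.mem_replicate] at hx
      rcases hx with ⟨-, rfl⟩ | ⟨-, rfl⟩ | hx
      · omega
      · omega
      · exact hl x hx)
    (List.all_eq_true.1 fuse_ok p hp)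
  simp only [List.map_append, List.prod_append, eu_pow, List.map_cons, List.map_nil, List.prod_cons,
    List.prod_nil, mul_one, ← mul_assoc] at this
  exact ⟨_, Subgroup.list_prod_mem _ fun y hy => by
    obtain ⟨x, -, rfl⟩ := List.mem_map.1 hy
    exact eu_mem hw x, this⟩

/-- The first generator of a Sylow subgroup. -/
noncomputable def ea : ↥(twistedE6 K 2) := ⟨eu hw 12, eu_mem hw 12⟩

/-- The second generator. -/
noncomputable def eb : ↥(twistedE6 K 2) := ⟨eu hw 13, eu_mem hw 13⟩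

variable [Fintype K]

/-- All elements of order five are conjugate to the first generator. -/
theorem isConj_ea (hK : Fintype.card K = 4) (y : ↥(twistedE6 K 2)) (hy : orderOf y = 5) :
    IsConj (ea hw) y := by
  classical
  haveI : Fact (Nat.Prime 5) := ⟨by norm_num⟩
  obtain ⟨-, ha5, hb5, hab, -⟩ := relations hw
  have hA : ea hw ^ 5 = 1 := Subtype.ext ha5
  have hB : eb hw ^ 5 = 1 := Subtype.ext hb5
  have hAB : Commute (ea hw) (eb hw) := Subtype.ext hab.eq
  let P : Subgroup ↥(twistedE6 K 2) :=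
    { carrier := {g | ∃ i < 5, ∃ j < 5, g = ea hw ^ i * eb hw ^ j}
      one_mem' := ⟨0, by norm_num, 0, by norm_num, by simp⟩
      mul_mem' := by
        rintro g h ⟨i, hi, j, hj, rfl⟩ ⟨i', hi', j', hj', rfl⟩
        refine ⟨(i + i') % 5, Nat.mod_lt _ (by norm_num), (j + j') % 5, Nat.mod_lt _ (by norm_num), ?_⟩
        rw [← pow_eq_pow_mod _ hA, ← pow_eq_pow_mod _ hB, pow_add, pow_add,
          (hAB.pow_pow i' j).symm.mul_mul_mul_comm]
      inv_mem' := by
        rintro g ⟨i, hi, j, hj, rfl⟩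
        refine ⟨(4 * i) % 5, Nat.mod_lt _ (by norm_num), (4 * j) % 5, Nat.mod_lt _ (by norm_num), ?_⟩
        rw [← pow_eq_pow_mod _ hA, ← pow_eq_pow_mod _ hB, inv_eq_iff_mul_eq_one,
          (hAB.pow_pow (4 * i) j).symm.mul_mul_mul_comm, ← pow_add, ← pow_add,
          show i + 4 * i = 5 * i by ring, show j + 4 * j = 5 * j by ring, pow_mul, pow_mul, hA, hB,
          one_pow, one_pow, one_mul] }
  have hconj : ∀ i < 5, ∀ j < 5, ¬ (i = 0 ∧ j = 0) → IsConj (ea hw) (ea hw ^ i * eb hw ^ j) := by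
    intro i hi j hj hij
    obtain ⟨g, hg, e⟩ := conj_facts hw i hi j hj hij
    refine isConj_iff.2 ⟨⟨g, hg⟩, Subtype.ext ?_⟩
    show g * eu hw 12 * g⁻¹ = eu hw 12 ^ i * eu hw 13 ^ j
    rw [e, mul_inv_cancel_right]
  have hne : ∀ i < 5, ∀ j < 5, ¬ (i = 0 ∧ j = 0) → ea hw ^ i * eb hw ^ j ≠ 1 := by
    intro i hi j hj hij e
    have h := hconj i hi j hj hij
    rw [e, isConj_one_left] at h
    exact a_ne_one hw (congrArg Subtype.val h)
  have hcard : Nat.card P = 5 ^ 2 := by
    let f : Fin 5 × Fin 5 → P := fun p => ⟨_, p.1.1, p.1.2, p.2.1, p.2.2, rfl⟩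
    have hf : Function.Bijective f := by
      constructor
      · rintro ⟨i, j⟩ ⟨i', j'⟩ e
        have e' : ea hw ^ (i : ℕ) * eb hw ^ (j : ℕ) = ea hw ^ (i' : ℕ) * eb hw ^ (j' : ℕ) :=
          congrArg Subtype.val e
        by_contra hne'
        refine hne (((i : ℕ) + (5 - i')) % 5) (Nat.mod_lt _ (by norm_num))
          (((j : ℕ) + (5 - j')) % 5) (Nat.mod_lt _ (by norm_num)) ?_ ?_
        · rintro ⟨h1, h2⟩
          exact hne' (Prod.ext (Fin.ext (show (i : ℕ) = i' by omega)) (Fin.ext (show (j : ℕ) = j' by omega)))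
        · rw [← pow_eq_pow_mod _ hA, ← pow_eq_pow_mod _ hB, pow_add, pow_add,
            (hAB.pow_pow (5 - (i' : ℕ)) (j : ℕ)).mul_mul_mul_comm, e',
            ← (hAB.pow_pow (5 - (i' : ℕ)) (j' : ℕ)).mul_mul_mul_comm, ← pow_add, ← pow_add,
            Nat.add_sub_cancel' (le_of_lt i'.2), Nat.add_sub_cancel' (le_of_lt j'.2), hA, hB, one_mul]
      · rintro ⟨g, i, hi, j, hj, rfl⟩
        exact ⟨(⟨i, hi⟩, ⟨j, hj⟩), rfl⟩
    rw [← Nat.card_congr (Equiv.ofBijective f hf), Nat.card_prod, Nat.card_fin]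
    norm_num
  have hfac : (Nat.card ↥(twistedE6 K 2)).factorization 5 = 2 := by
    have h0 : Nat.card ↥(twistedE6 K 2) ≠ 0 := Nat.card_pos.ne'
    have hge : 2 ≤ (Nat.card ↥(twistedE6 K 2)).factorization 5 :=
      ((Nat.prime_five.pow_dvd_iff_le_factorization h0).1 (hcard ▸ Subgroup.card_subgroup_dvd_card P))
    have hlt : ¬ 3 ≤ (Nat.card ↥(twistedE6 K 2)).factorization 5 := fun h =>
      not_dvd_card hK ((Nat.prime_five.pow_dvd_iff_le_factorization h0).2 h)
    omega
  let Q : Sylow 5 ↥(twistedE6 K 2) := Sylow.ofCard P (by rw [hcard, hfac])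
  obtain ⟨R, hR⟩ := IsPGroup.exists_le_sylow (P := Subgroup.zpowers y)
    (IsPGroup.of_card (n := 1) (by rw [Nat.card_zpowers, hy, pow_one]))
  obtain ⟨c, hc⟩ := MulAction.exists_smul_eq ↥(twistedE6 K 2) R Q
  have hm : MulAut.conj c • y ∈ (Q : Subgroup ↥(twistedE6 K 2)) := by
    rw [← hc, Sylow.coe_subgroup_smul]
    exact Subgroup.smul_mem_pointwise_smul _ _ _ (hR (Subgroup.mem_zpowers y))
  obtain ⟨i, hi, j, hj, e⟩ : MulAut.conj c • y ∈ P := hm
  have hij : ¬ (i = 0 ∧ j = 0) := by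
    rintro ⟨rfl, rfl⟩
    simp only [MulAut.smul_def, MulAut.conj_apply, pow_zero, mul_one, conj_eq_one_iff] at e
    rw [e, orderOf_one] at hy
    norm_num at hy
  refine (hconj i hi j hj hij).trans (IsConj.symm (isConj_iff.2 ⟨c, ?_⟩))
  rw [← e]; rfl

/-- The element centralised by the alternating group of degree eight. -/
noncomputable def ex : ↥(twistedE6 K 2) := ⟨eu hw 11, eu_mem hw 11⟩

theorem orderOf_ex : orderOf (ex hw) = 5 := by
  haveI : Fact (Nat.Prime 5) := ⟨by norm_num⟩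
  exact orderOf_eq_prime (Subtype.ext (relations hw).1) fun e =>
    x_not_mem hw (by rw [show eu hw 11 = 1 from congrArg Subtype.val e]; exact one_mem _)

/-- The structure of the centraliser. -/
theorem centralizer_ex (hK : Fintype.card K = 4) {E : Type} [Field E] [Fintype E] [CharP E 2]
    (f : K →+* E) (ζ : Eˣ) (hE : Fintype.card E = 16) (hζ : orderOf ζ = 5)
    (hf : f w = (ζ : E) + ((ζ⁻¹ : Eˣ) : E)) :
    Nonempty (↥(Subgroup.centralizer ({ex hw} : Set ↥(twistedE6 K 2))) ≃*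
      (Multiplicative (ZMod 5) × ↥(alternatingGroup (Fin 8)))) := by
  classical
  haveI : Fact (Nat.Prime 5) := ⟨by norm_num⟩
  set C := Subgroup.centralizer ({ex hw} : Set ↥(twistedE6 K 2)) with hC
  have hbound : Nat.card C ≤ 100800 := by
    refine le_trans (Nat.card_le_card_of_injective (β := {g : GL chevE6.Idx K //
      g ∈ twistedE6 K 2 ∧ g * eu hw 11 = eu hw 11 * g})
      (fun g => ⟨g.1.1, g.1.2, congrArg Subtype.val (Subgroup.mem_centralizer_singleton_iff.1 g.2)⟩)
      fun g g' e => Subtype.ext (Subtype.ext (congrArg Subtype.val e :))) (card_cent_le f hw ζ hK hE hζ hf)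
  have hLG : L6 hw ≤ twistedE6 K 2 := (Subgroup.closure_le _).2 (by
    rintro _ ⟨a, rfl⟩; exact eu_mem hw _)
  have hLc : ∀ g ∈ L6 hw, Commute (eu hw 11) g := fun g hg => by
    refine (Subgroup.mem_centralizer_singleton_iff.1
      ((Subgroup.closure_le _).2 ?_ hg : g ∈ Subgroup.centralizer {eu hw 11})).symm
    rintro _ ⟨a, rfl⟩
    exact Subgroup.mem_centralizer_singleton_iff.2 ((relations hw).2.2.2.2 a).eq.symm
  have hxC : ex hw ∈ C := Subgroup.mem_centralizer_singleton_iff.2 rfl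
  let iX : ↥(Subgroup.zpowers (ex hw)) →* ↥C :=
    Subgroup.inclusion (Subgroup.zpowers_le.2 hxC)
  let iL : ↥(L6 hw) →* ↥C :=
    MonoidHom.codRestrict (Subgroup.inclusion hLG) C fun g =>
      Subgroup.mem_centralizer_singleton_iff.2 (Subtype.ext (hLc g.1 g.2).eq.symm)
  have hcomm : ∀ a b, Commute (iX a) (iL b) := by
    rintro ⟨a, k, rfl⟩ b
    have h : Commute (ex hw) (Subgroup.inclusion hLG b) := Subtype.ext (hLc b.1 b.2).eq
    exact Subtype.ext (h.zpow_left k).eq
  let ψ := MonoidHom.noncommCoprod iX iL hcomm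
  have hX : Nat.card ↥(Subgroup.zpowers (ex hw)) = 5 := by rw [Nat.card_zpowers, orderOf_ex]
  have hinj : Function.Injective ψ := by
    refine (injective_iff_map_eq_one ψ).2 ?_
    rintro ⟨⟨a, ha⟩, b⟩ e
    have e' : (a : GL chevE6.Idx K) * b.1 = 1 :=
      congrArg (fun z : ↥C => (z.1.1 : GL chevE6.Idx K)) e
    have hk : (a : GL chevE6.Idx K) ∈ L6 hw := by
      rw [mul_eq_one_iff_eq_inv.1 e']; exact inv_mem b.2
    have ha1 : a = 1 := by
      by_contra hne
      have hgen : Subgroup.zpowers a = Subgroup.zpowers (ex hw) :=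
        le_antisymm (Subgroup.zpowers_le.2 ha) (by
          refine le_of_eq (Eq.symm ?_)
          refine Subgroup.eq_of_le_of_card_ge (Subgroup.zpowers_le.2 ha) ?_
          rw [hX, Nat.card_zpowers]
          refine le_of_eq (Eq.symm (orderOf_eq_prime ?_ hne))
          obtain ⟨k, rfl⟩ := ha
          rw [← zpow_natCast, ← zpow_mul, mul_comm, zpow_mul, zpow_natCast,
            ← orderOf_ex hw, pow_orderOf_eq_one, one_zpow])
      obtain ⟨m, hm⟩ : ex hw ∈ Subgroup.zpowers a := hgen ▸ Subgroup.mem_zpowers _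
      exact x_not_mem hw (by
        rw [show eu hw 11 = (a : GL chevE6.Idx K) ^ m from (congrArg Subtype.val hm).symm.trans (by simp)]
        exact zpow_mem hk m)
    subst ha1
    rw [show ((1 : ↥(twistedE6 K 2)) : GL chevE6.Idx K) = 1 from rfl, one_mul] at e'
    exact Prod.ext rfl (Subtype.ext e')
  have hcount := Nat.card_le_card_of_injective _ hinj
  rw [Nat.card_prod, hX] at hcount
  obtain ⟨⟨eL⟩, hL⟩ := L6_iso hw (by omega)
  have hbij := hinj.bijective_of_nat_card_le (by rw [Nat.card_prod, hX, hL]; omega)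
  have eX : ↥(Subgroup.zpowers (ex hw)) ≃* Multiplicative (ZMod 5) :=
    mulEquivOfPrimeCardEq hX (by simp)
  exact ⟨(MulEquiv.ofBijective ψ hbij).symm.trans (eX.prodCongr eL)⟩

end Cfsg.Agent.E6Five
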