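import Cfsg.Agent.E6Five.StabData
import Cfsg.Agent.Chev.All
import Cfsg.Agent.Chev.Orbits

/-!
# The elements of the Weyl group of type E6 fixing a character of order five
-/

set_option autoImplicit false
set_option maxRecDepth 100000

namespace Cfsg.Agent.E6Five

open Cfsg.Lie Cfsg.Agent.Chev

universe u

/-- The simple word of one of the three reflections. -/
def blk (g : Nat) : List Nat :=
  if g = 39 then [3] else if g = 46 then [1] else topU ++ topI :: topU.reverse

/-- The word of the element with the given number. -/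
def wordN (idx : Nat) : List Nat := (wgl.getD idx []).flatMap blk

/-- The character: an exponent modulo five of a primitive fifth root of unity. -/
def chiE (c : List Int) : Int := (c.getD 0 0 + 2 * c.getD 5 0) % 5

/-- The pairing of coordinates and Cartan numbers. -/
def dot6 (a b : List Int) : Int :=
  a.getD 0 0 * b.getD 0 0 + a.getD 1 0 * b.getD 1 0 + a.getD 2 0 * b.getD 2 0 +
    a.getD 3 0 * b.getD 3 0 + a.getD 4 0 * b.getD 4 0 + a.getD 5 0 * b.getD 5 0

/-- The row of a root. -/
def row (r : Nat) : Nat × List Int × List Int := tab.getD r (0, [], [])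

/-- The row of a fundamental root. -/
def srow (i : Nat) : Nat × List Int × List Int := row (chevE6.simple i)

/-- Possible images of a fundamental root. -/
def cand (i : Nat) : List (Nat × List Int × List Int) :=
  tab.filter fun e => chiE e.2.2 == chiE (srow i).2.2

/-- The consistent images of the first fundamental roots. -/
def lev : Nat → List (List (Nat × List Int × List Int))
  | 0 => [[]]
  | i + 1 => (lev i).flatMap fun l => ((cand i).filter fun e => (List.range i).all fun j =>
      dot6 (l.getD j (0, [], [])).2.1 e.2.2 == (srow i).2.2.getD j 0).map fun e => l ++ [e]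

/-- The multiplicities of the weight congruent to zero modulo three. -/
def v3 : List Int := [4, 3, 5, 6, 4, 2]

/-- Trivial action on the weights modulo roots. -/
def inv3 (l : List (Nat × List Int × List Int)) : Bool :=
  (List.range 6).all fun k =>
    (v3.getD 0 0 * (l.getD 0 (0, [], [])).2.1.getD k 0 + v3.getD 1 0 * (l.getD 1 (0, [], [])).2.1.getD k 0 +
      v3.getD 2 0 * (l.getD 2 (0, [], [])).2.1.getD k 0 + v3.getD 3 0 * (l.getD 3 (0, [], [])).2.1.getD k 0 +
      v3.getD 4 0 * (l.getD 4 (0, [], [])).2.1.getD k 0 + v3.getD 5 0 * (l.getD 5 (0, [], [])).2.1.getD k 0 -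
      v3.getD k 0) % 3 == 0

theorem nroots_e6 : chevE6.nroots = 72 := by decide +kernel

theorem rank_e6 : chevE6.rank = 6 := rfl

theorem half_e6 : half chevE6 = 36 := by decide +kernel

theorem tab_ok : ∀ r : Fin 72, (row r).1 = r ∧ ∀ i : Fin 6,
    (row r).2.1.getD i 0 = coef chevE6 r i ∧ (row r).2.2.getD i 0 = chevE6.cartan i r := by
  decide +kernel

theorem tab_length : tab.length = 72 := by decide +kernel

theorem tab_sep : ∀ r : Fin 72,
    (tab.find? fun e => (List.range 6).all fun i => e.2.1.getD i 0 == (row r).2.1.getD i 0) = some (row r) := by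
  decide +kernel

theorem lev_ok : ((lev 6).all fun l => !inv3 l || wimg.contains (l.map fun e => e.1)) = true := by
  decide +kernel

theorem wimg_ok : wimg.length = 24 ∧ ∀ idx : Fin 24, ∀ i : Fin 6,
    (wordN idx).foldr (fun j s => chevE6.reflectRoot j s) (chevE6.simple i) =
      (wimg.getD idx []).getD i 0 := by
  decide +kernel

theorem wordN_lt : ∀ idx : Fin 24, ∀ j ∈ wordN idx, j < 6 := by decide +kernel

theorem cartan_col : ∀ l : Fin 6, ((v3.getD 0 0 * chevE6.cartan 0 (chevE6.simple l) +
    v3.getD 1 0 * chevE6.cartan 1 (chevE6.simple l) + v3.getD 2 0 * chevE6.cartan 2 (chevE6.simple l) +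
    v3.getD 3 0 * chevE6.cartan 3 (chevE6.simple l) + v3.getD 4 0 * chevE6.cartan 4 (chevE6.simple l) +
    v3.getD 5 0 * chevE6.cartan 5 (chevE6.simple l)) % 3) = 0 := by
  decide +kernel

theorem eq_of_coef {r s : Fin chevE6.nroots}
    (h : ∀ i : Fin chevE6.rank, coef chevE6 r i = coef chevE6 s i) : r = s := by
  have hr : (r : ℕ) < 72 := nroots_e6 ▸ r.2
  have hs : (s : ℕ) < 72 := nroots_e6 ▸ s.2
  have e1 := tab_sep ⟨r, hr⟩
  have e2 := tab_sep ⟨s, hs⟩
  have e : ∀ i < 6, (row r).2.1.getD i 0 = (row s).2.1.getD i 0 := fun i hi => by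
    rw [((tab_ok ⟨r, hr⟩).2 ⟨i, hi⟩).1, ((tab_ok ⟨s, hs⟩).2 ⟨i, hi⟩).1]
    exact h ⟨i, hi⟩
  have : (fun e : Nat × List Int × List Int =>
      (List.range 6).all fun i => e.2.1.getD i 0 == (row r).2.1.getD i 0) =
      fun e => (List.range 6).all fun i => e.2.1.getD i 0 == (row s).2.1.getD i 0 := by
    funext x
    rw [Bool.eq_iff_iff, List.all_eq_true, List.all_eq_true]
    constructor <;> intro hx i hi <;> [rw [← e i (List.mem_range.1 hi)]; rw [e i (List.mem_range.1 hi)]] <;>
      exact hx i hi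
  dsimp only at e1 e2
  rw [this, e2] at e1
  have e3 := congrArg Prod.fst (Option.some.inj e1)
  rw [(tab_ok ⟨r, hr⟩).1, (tab_ok ⟨s, hs⟩).1] at e3
  exact Fin.ext e3.symm

variable (hF : Facts.{u} chevE6)
include hF

theorem pair_refl (i : Fin chevE6.rank) (r s : Fin chevE6.nroots) :
    ∑ j : Fin chevE6.rank, coef chevE6 (wPerm hF i r : ℕ) j * chevE6.cartan j (wPerm hF i s : ℕ) =
      ∑ j : Fin chevE6.rank, coef chevE6 (r : ℕ) j * chevE6.cartan j s := by
  simp only [wPerm_val]
  have h1 : ∀ j : Fin chevE6.rank, coef chevE6 (chevE6.reflectRoot i r) j *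
      chevE6.cartan j (chevE6.reflectRoot i s) = coef chevE6 r j * chevE6.cartan j s -
        chevE6.cartan i s * (coef chevE6 r j * chevE6.cartan j (chevE6.simple i)) +
        if j = i then (∑ k : Fin chevE6.rank, coef chevE6 r k * chevE6.cartan k (chevE6.simple i)) *
          chevE6.cartan i s else 0 := by
    intro j
    rw [hF.coef_refl i i.2 r r.2 j j.2, hF.cartan_refl i i.2 s s.2 j j.2]
    by_cases h : j = i
    · subst h
      rw [if_pos rfl, if_pos rfl, hF.cartan_self j j.2]
      ring
    · rw [if_neg (fun e => h (Fin.ext e)), if_neg h]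
      ring
  simp only [h1, Finset.sum_add_distrib, Finset.sum_sub_distrib, ← Finset.mul_sum,
    Finset.sum_ite_eq', Finset.mem_univ, if_true]
  ring

theorem pair_pWord (w : List (Fin chevE6.rank)) (r s : Fin chevE6.nroots) :
    ∑ j : Fin chevE6.rank, coef chevE6 (pWord hF w r : ℕ) j * chevE6.cartan j (pWord hF w s : ℕ) =
      ∑ j : Fin chevE6.rank, coef chevE6 (r : ℕ) j * chevE6.cartan j s := by
  induction w with
  | nil => rfl
  | cons i w ih => simp only [pWord_cons, Equiv.Perm.mul_apply, pair_refl hF i, ih]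

theorem weight_pWord (w : List (Fin chevE6.rank)) (k : Fin chevE6.rank) :
    ((∑ i : Fin chevE6.rank, v3.getD i 0 * coef chevE6 (pWord hF w (sRoot hF i) : ℕ) k) -
      v3.getD k 0) % 3 = 0 := by
  induction w generalizing k with
  | nil =>
    rw [Finset.sum_eq_single k]
    · show (v3.getD k 0 * coef chevE6 (chevE6.simple k) k - v3.getD k 0) % 3 = 0
      rw [hF.coef_simple k k.2 k k.2, if_pos rfl, mul_one, sub_self]; rfl
    · intro i _ hi
      show v3.getD i 0 * coef chevE6 (chevE6.simple i) k = 0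
      rw [hF.coef_simple i i.2 k k.2, if_neg (fun e => hi (Fin.ext e).symm), mul_zero]
    · intro h; exact absurd (Finset.mem_univ _) h
  | cons l w ih =>
    simp only [pWord_cons, Equiv.Perm.mul_apply, wPerm_val]
    set b : Fin chevE6.rank → Fin chevE6.rank → ℤ :=
      fun i h => coef chevE6 (pWord hF w (sRoot hF i) : ℕ) h with hb
    have h1 : ∀ i, coef chevE6 (chevE6.reflectRoot l (pWord hF w (sRoot hF i))) k = b i k -
        if k = l then ∑ h, b i h * chevE6.cartan h (chevE6.simple l) else 0 := fun i => by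
      rw [hF.coef_refl l l.2 _ (pWord hF w (sRoot hF i)).2 k k.2]
      by_cases h : k = l
      · rw [if_pos h, if_pos (by rw [h])]
      · rw [if_neg h, if_neg (fun e => h (Fin.ext e))]
    simp only [h1, mul_sub, Finset.sum_sub_distrib]
    have hk := ih k
    change ((∑ i : Fin chevE6.rank, v3.getD (i : ℕ) 0 * b i k) - v3.getD (k : ℕ) 0) % 3 = 0 at hk
    by_cases h : k = l
    · simp only [if_pos h, Finset.mul_sum]
      rw [Finset.sum_comm (γ := Fin chevE6.rank)]
      have hh : (3 : ℤ) ∣ ∑ h : Fin chevE6.rank, ∑ i : Fin chevE6.rank,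
          v3.getD i 0 * (b i h * chevE6.cartan h (chevE6.simple l)) := by
        have h2 : (3 : ℤ) ∣ ∑ h : Fin chevE6.rank,
            ((∑ i : Fin chevE6.rank, v3.getD (i : ℕ) 0 * b i h) - v3.getD (h : ℕ) 0) * chevE6.cartan h (chevE6.simple l) :=
          Finset.dvd_sum fun h _ => dvd_mul_of_dvd_left (Int.dvd_of_emod_eq_zero (ih h)) _
        have h3 : (3 : ℤ) ∣ ∑ h : Fin chevE6.rank, v3.getD h 0 * chevE6.cartan h (chevE6.simple l) := by
          refine Int.dvd_of_emod_eq_zero ?_
          have := cartan_col l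
          change (∑ h : Fin 6, v3.getD h 0 * chevE6.cartan h (chevE6.simple l)) % 3 = 0
          rw [Fin.sum_univ_six]
          exact this
        have := dvd_add h2 h3
        rw [← Finset.sum_add_distrib] at this
        refine (congrArg ((3 : ℤ) ∣ ·) (Finset.sum_congr rfl fun h _ => ?_)).mp this
        rw [sub_mul, sub_add_cancel, Finset.sum_mul]
        exact Finset.sum_congr rfl fun i _ => by ring
      omega
    · simp only [if_neg h, mul_zero, Finset.sum_const_zero, sub_zero]
      exact hk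

omit hF in
theorem mem_lev (f : ℕ → Nat × List Int × List Int)
    (h1 : ∀ i < 6, f i ∈ cand i)
    (h2 : ∀ i < 6, ∀ j < i, dot6 (f j).2.1 (f i).2.2 = (srow i).2.2.getD j 0) :
    ∀ n ≤ 6, (List.range n).map f ∈ lev n
  | 0, _ => List.mem_singleton_self _
  | n + 1, hn => by
    rw [lev, List.mem_flatMap]
    refine ⟨_, mem_lev f h1 h2 n (by omega), List.mem_map.2 ⟨f n, ?_, by rw [List.range_succ, List.map_append]; rfl⟩⟩
    refine List.mem_filter.2 ⟨h1 n hn, List.all_eq_true.2 fun j hj => ?_⟩
    rw [List.mem_range] at hj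
    rw [List.getD_eq_getElem _ _ (by simpa using hj), List.getElem_map, List.getElem_range, beq_iff_eq]
    exact h2 n hn j hj

/-- The element with the given number. -/
def wordF (idx : Nat) : List (Fin chevE6.rank) :=
  (wordN idx).filterMap fun j => if h : j < chevE6.rank then some ⟨j, h⟩ else none

theorem wordF_foldr (idx : Fin 24) (r : Fin chevE6.nroots) :
    (pWord hF (wordF idx) r : ℕ) =
      (wordN idx).foldr (fun j s => chevE6.reflectRoot j s) (r : ℕ) := by
  have h := wordN_lt idx
  revert h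
  unfold wordF
  generalize wordN idx = L
  intro h
  induction L with
  | nil => rfl
  | cons j L ih =>
    rw [List.forall_mem_cons] at h
    rw [List.filterMap_cons, dif_pos (show j < chevE6.rank from h.1)]
    simp only [pWord_cons, Equiv.Perm.mul_apply, wPerm_val, List.foldr_cons, ih h.2]

/-- The classification of the elements of the Weyl group fixing the character. -/
theorem exists_wordF {π : Equiv.Perm (Fin chevE6.nroots)} (hπ : π ∈ weyl hF)
    (hχ : ∀ i : Fin chevE6.rank, chiE (row (π (sRoot hF i) : ℕ)).2.2 = chiE (srow i).2.2) :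
    ∃ idx : Fin 24, π = pWord hF (wordF idx) := by
  obtain ⟨w, rfl⟩ := exists_pWord hF hπ
  set f : ℕ → Nat × List Int × List Int := fun i =>
    if h : i < chevE6.rank then row (pWord hF w (sRoot hF ⟨i, h⟩) : ℕ) else (0, [], []) with hf
  have hlt : ∀ r : Fin chevE6.nroots, (r : ℕ) < 72 := fun r => nroots_e6 ▸ r.2
  have hfi : ∀ (i : ℕ) (hi : i < 6), f i = row (pWord hF w (sRoot hF ⟨i, hi⟩) : ℕ) := fun i hi =>
    dif_pos hi
  have hc : ∀ (r : Fin chevE6.nroots) (j : Fin chevE6.rank),
      (row r).2.1.getD j 0 = coef chevE6 r j ∧ (row r).2.2.getD j 0 = chevE6.cartan j r := fun r j =>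
    (tab_ok ⟨r, hlt r⟩).2 j
  have h1 : ∀ i < 6, f i ∈ cand i := fun i hi => by
    refine List.mem_filter.2 ⟨?_, ?_⟩
    · rw [hfi i hi]
      unfold row
      rw [List.getD_eq_getElem _ _ (by rw [tab_length]; exact hlt _)]
      exact List.getElem_mem _
    · rw [beq_iff_eq, hfi i hi]; exact hχ ⟨i, hi⟩
  have h2 : ∀ i < 6, ∀ j < i, dot6 (f j).2.1 (f i).2.2 = (srow i).2.2.getD j 0 := fun i hi j hj => by
    rw [hfi i hi, hfi j (by omega)]
    set P := pWord hF w (sRoot hF ⟨i, hi⟩)
    set Q := pWord hF w (sRoot hF ⟨j, by rw [rank_e6]; omega⟩)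
    have e := pair_pWord hF w (sRoot hF ⟨j, by rw [rank_e6]; omega⟩) (sRoot hF ⟨i, hi⟩)
    rw [Finset.sum_eq_single (⟨j, by rw [rank_e6]; omega⟩ : Fin chevE6.rank)
      (f := fun k : Fin chevE6.rank => coef chevE6 (sRoot hF (⟨j, by rw [rank_e6]; omega⟩ : Fin chevE6.rank) : ℕ) k *
        chevE6.cartan k (sRoot hF ⟨i, hi⟩ : ℕ))] at e
    · change _ = coef chevE6 (chevE6.simple j) j * chevE6.cartan j (chevE6.simple i) at e
      rw [hF.coef_simple j (by rw [rank_e6]; omega) j (by rw [rank_e6]; omega), if_pos rfl, one_mul] at e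
      rw [show (srow i).2.2.getD j 0 = chevE6.cartan j (chevE6.simple i) from
        (hc (sRoot hF ⟨i, hi⟩) ⟨j, by rw [rank_e6]; omega⟩).2, ← e]
      refine Eq.trans ?_ (Finset.sum_congr rfl fun k _ => show (row Q).2.1.getD k 0 * (row P).2.2.getD k 0 = _ by
        rw [(hc Q k).1, (hc P k).2])
      exact (Fin.sum_univ_six (fun k : Fin 6 => (row Q).2.1.getD k 0 * (row P).2.2.getD k 0)).symm
    · intro k _ hk
      show coef chevE6 (chevE6.simple j) k * _ = 0
      rw [hF.coef_simple j (by rw [rank_e6]; omega) k k.2, if_neg (fun e => hk (Fin.ext e)), zero_mul]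
    · intro h; exact absurd (Finset.mem_univ _) h
  have hm := mem_lev f h1 h2 6 le_rfl
  have hinv : inv3 ((List.range 6).map f) = true := by
    refine List.all_eq_true.2 fun k hk => ?_
    rw [List.mem_range] at hk
    rw [beq_iff_eq]
    have e := weight_pWord hF w ⟨k, hk⟩
    have hsum : (∑ i : Fin chevE6.rank, v3.getD (i : ℕ) 0 * coef chevE6 (pWord hF w (sRoot hF i) : ℕ) k) =
        ∑ i : Fin chevE6.rank, v3.getD (i : ℕ) 0 * (row (pWord hF w (sRoot hF i) : ℕ)).2.1.getD k 0 :=
      Finset.sum_congr rfl fun i _ => by rw [(hc (pWord hF w (sRoot hF i)) ⟨k, hk⟩).1]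
    rw [hsum] at e
    refine Eq.trans ?_ e
    congr 2
    exact (Fin.sum_univ_six (fun i : Fin 6 =>
      v3.getD i 0 * (row (pWord hF w (sRoot hF i) : ℕ)).2.1.getD k 0)).symm
  have hmem := List.all_eq_true.1 lev_ok _ hm
  rw [hinv, Bool.not_true, Bool.false_or, List.contains_iff_mem] at hmem
  obtain ⟨idx, hidx, he⟩ := List.mem_iff_getElem.1 hmem
  refine ⟨⟨idx, wimg_ok.1 ▸ hidx⟩, ?_⟩
  have hs : ∀ i : Fin chevE6.rank, pWord hF (wordF idx) (sRoot hF i) = pWord hF w (sRoot hF i) := by
    intro i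
    apply Fin.ext
    rw [wordF_foldr hF ⟨idx, wimg_ok.1 ▸ hidx⟩]
    show (wordN idx).foldr _ (chevE6.simple i) = _
    have hw := wimg_ok.2 ⟨idx, wimg_ok.1 ▸ hidx⟩ i
    rw [hw, List.getD_eq_getElem _ _ hidx, he]
    have hi6 : (i : ℕ) < 6 := i.2
    rw [List.getD_eq_getElem _ _ (by simpa using hi6), List.getElem_map, List.getElem_map,
      List.getElem_range, hfi i hi6]
    exact (tab_ok ⟨_, hlt _⟩).1
  refine Equiv.ext fun r => eq_of_coef fun k => ?_
  rw [coef_pWord hF w r k, coef_pWord hF (wordF idx) r k]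
  exact Finset.sum_congr rfl fun l _ => by rw [hs l]

end Cfsg.Agent.E6Five
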