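import Mathlib.Data.Int.Notation
import Mathlib.Data.List.Defs

/-!
# Data: the roots of type E6 and the Weyl group of a subsystem of type A3
-/

set_option autoImplicit false

namespace Cfsg.Agent.E6Five

/-- The roots with their coordinates and their Cartan numbers. -/
def tab : List (Nat × List Int × List Int) := [
  (0, [-1, -2, -2, -3, -2, -1], [0, -1, 0, 0, 0, 0]),
  (1, [-1, -1, -2, -3, -2, -1], [0, 1, 0, -1, 0, 0]),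
  (2, [-1, -1, -2, -2, -2, -1], [0, 0, -1, 1, -1, 0]),
  (3, [-1, -1, -2, -2, -1, -1], [0, 0, -1, 0, 1, -1]),
  (4, [-1, -1, -2, -2, -1, 0], [0, 0, -1, 0, 0, 1]),
  (5, [-1, -1, -1, -2, -2, -1], [-1, 0, 1, 0, -1, 0]),
  (6, [-1, -1, -1, -2, -1, -1], [-1, 0, 1, -1, 1, -1]),
  (7, [-1, -1, -1, -2, -1, 0], [-1, 0, 1, -1, 0, 1]),
  (8, [-1, -1, -1, -1, -1, -1], [-1, -1, 0, 1, 0, -1]),
  (9, [-1, -1, -1, -1, -1, 0], [-1, -1, 0, 1, -1, 1]),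
  (10, [-1, -1, -1, -1, 0, 0], [-1, -1, 0, 0, 1, 0]),
  (11, [-1, 0, -1, -1, -1, -1], [-1, 1, 0, 0, 0, -1]),
  (12, [-1, 0, -1, -1, -1, 0], [-1, 1, 0, 0, -1, 1]),
  (13, [-1, 0, -1, -1, 0, 0], [-1, 1, 0, -1, 1, 0]),
  (14, [-1, 0, -1, 0, 0, 0], [-1, 0, -1, 1, 0, 0]),
  (15, [-1, 0, 0, 0, 0, 0], [-2, 0, 1, 0, 0, 0]),
  (16, [0, -1, -1, -2, -2, -1], [1, 0, 0, 0, -1, 0]),
  (17, [0, -1, -1, -2, -1, -1], [1, 0, 0, -1, 1, -1]),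
  (18, [0, -1, -1, -2, -1, 0], [1, 0, 0, -1, 0, 1]),
  (19, [0, -1, -1, -1, -1, -1], [1, -1, -1, 1, 0, -1]),
  (20, [0, -1, -1, -1, -1, 0], [1, -1, -1, 1, -1, 1]),
  (21, [0, -1, -1, -1, 0, 0], [1, -1, -1, 0, 1, 0]),
  (22, [0, -1, 0, -1, -1, -1], [0, -1, 1, 0, 0, -1]),
  (23, [0, -1, 0, -1, -1, 0], [0, -1, 1, 0, -1, 1]),
  (24, [0, -1, 0, -1, 0, 0], [0, -1, 1, -1, 1, 0]),
  (25, [0, -1, 0, 0, 0, 0], [0, -2, 0, 1, 0, 0]),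
  (26, [0, 0, -1, -1, -1, -1], [1, 1, -1, 0, 0, -1]),
  (27, [0, 0, -1, -1, -1, 0], [1, 1, -1, 0, -1, 1]),
  (28, [0, 0, -1, -1, 0, 0], [1, 1, -1, -1, 1, 0]),
  (29, [0, 0, -1, 0, 0, 0], [1, 0, -2, 1, 0, 0]),
  (30, [0, 0, 0, -1, -1, -1], [0, 1, 1, -1, 0, -1]),
  (31, [0, 0, 0, -1, -1, 0], [0, 1, 1, -1, -1, 1]),
  (32, [0, 0, 0, -1, 0, 0], [0, 1, 1, -2, 1, 0]),
  (33, [0, 0, 0, 0, -1, -1], [0, 0, 0, 1, -1, -1]),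
  (34, [0, 0, 0, 0, -1, 0], [0, 0, 0, 1, -2, 1]),
  (35, [0, 0, 0, 0, 0, -1], [0, 0, 0, 0, 1, -2]),
  (36, [0, 0, 0, 0, 0, 1], [0, 0, 0, 0, -1, 2]),
  (37, [0, 0, 0, 0, 1, 0], [0, 0, 0, -1, 2, -1]),
  (38, [0, 0, 0, 0, 1, 1], [0, 0, 0, -1, 1, 1]),
  (39, [0, 0, 0, 1, 0, 0], [0, -1, -1, 2, -1, 0]),
  (40, [0, 0, 0, 1, 1, 0], [0, -1, -1, 1, 1, -1]),
  (41, [0, 0, 0, 1, 1, 1], [0, -1, -1, 1, 0, 1]),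
  (42, [0, 0, 1, 0, 0, 0], [-1, 0, 2, -1, 0, 0]),
  (43, [0, 0, 1, 1, 0, 0], [-1, -1, 1, 1, -1, 0]),
  (44, [0, 0, 1, 1, 1, 0], [-1, -1, 1, 0, 1, -1]),
  (45, [0, 0, 1, 1, 1, 1], [-1, -1, 1, 0, 0, 1]),
  (46, [0, 1, 0, 0, 0, 0], [0, 2, 0, -1, 0, 0]),
  (47, [0, 1, 0, 1, 0, 0], [0, 1, -1, 1, -1, 0]),
  (48, [0, 1, 0, 1, 1, 0], [0, 1, -1, 0, 1, -1]),
  (49, [0, 1, 0, 1, 1, 1], [0, 1, -1, 0, 0, 1]),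
  (50, [0, 1, 1, 1, 0, 0], [-1, 1, 1, 0, -1, 0]),
  (51, [0, 1, 1, 1, 1, 0], [-1, 1, 1, -1, 1, -1]),
  (52, [0, 1, 1, 1, 1, 1], [-1, 1, 1, -1, 0, 1]),
  (53, [0, 1, 1, 2, 1, 0], [-1, 0, 0, 1, 0, -1]),
  (54, [0, 1, 1, 2, 1, 1], [-1, 0, 0, 1, -1, 1]),
  (55, [0, 1, 1, 2, 2, 1], [-1, 0, 0, 0, 1, 0]),
  (56, [1, 0, 0, 0, 0, 0], [2, 0, -1, 0, 0, 0]),
  (57, [1, 0, 1, 0, 0, 0], [1, 0, 1, -1, 0, 0]),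
  (58, [1, 0, 1, 1, 0, 0], [1, -1, 0, 1, -1, 0]),
  (59, [1, 0, 1, 1, 1, 0], [1, -1, 0, 0, 1, -1]),
  (60, [1, 0, 1, 1, 1, 1], [1, -1, 0, 0, 0, 1]),
  (61, [1, 1, 1, 1, 0, 0], [1, 1, 0, 0, -1, 0]),
  (62, [1, 1, 1, 1, 1, 0], [1, 1, 0, -1, 1, -1]),
  (63, [1, 1, 1, 1, 1, 1], [1, 1, 0, -1, 0, 1]),
  (64, [1, 1, 1, 2, 1, 0], [1, 0, -1, 1, 0, -1]),
  (65, [1, 1, 1, 2, 1, 1], [1, 0, -1, 1, -1, 1]),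
  (66, [1, 1, 1, 2, 2, 1], [1, 0, -1, 0, 1, 0]),
  (67, [1, 1, 2, 2, 1, 0], [0, 0, 1, 0, 0, -1]),
  (68, [1, 1, 2, 2, 1, 1], [0, 0, 1, 0, -1, 1]),
  (69, [1, 1, 2, 2, 2, 1], [0, 0, 1, -1, 1, 0]),
  (70, [1, 1, 2, 3, 2, 1], [0, -1, 0, 1, 0, 0]),
  (71, [1, 2, 2, 3, 2, 1], [0, 1, 0, 0, 0, 0])]

/-- A reduced word of the reflection in the highest root, as `u ++ i :: u.reverse`. -/
def topU : List Nat := [1, 3, 4, 5, 2, 3, 4, 1, 3, 2]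

/-- The middle letter. -/
def topI : Nat := 0

/-- The twenty-four elements as products of the three reflections, coded by the roots 39, 46, 71. -/
def wgl : List (List Nat) := [[], [39], [46], [71], [46, 39], [71, 39], [39, 46], [71, 46], [46, 71], [39, 46, 39], [71, 46, 39], [46, 71, 39], [71, 39, 46], [46, 71, 46], [39, 46, 71], [71, 39, 46, 39], [46, 71, 46, 39], [39, 46, 71, 39], [46, 71, 39, 46], [39, 46, 71, 46], [46, 71, 39, 46, 39], [39, 46, 71, 46, 39], [39, 46, 71, 39, 46], [39, 46, 71, 39, 46, 39]]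

/-- The images of the fundamental roots. -/
def wimg : List (List Nat) := [[56, 46, 42, 39, 37, 36],
  [56, 47, 43, 32, 40, 36],
  [56, 25, 42, 47, 37, 36],
  [56, 1, 42, 39, 37, 36],
  [56, 39, 50, 24, 48, 36],
  [56, 2, 43, 32, 40, 36],
  [56, 24, 43, 46, 40, 36],
  [56, 70, 42, 2, 37, 36],
  [56, 0, 42, 47, 37, 36],
  [56, 32, 50, 25, 48, 36],
  [56, 39, 5, 69, 3, 36],
  [56, 2, 50, 24, 48, 36],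
  [56, 69, 43, 1, 40, 36],
  [56, 71, 42, 2, 37, 36],
  [56, 0, 43, 46, 40, 36],
  [56, 32, 5, 70, 3, 36],
  [56, 47, 5, 69, 3, 36],
  [56, 1, 50, 25, 48, 36],
  [56, 69, 50, 0, 48, 36],
  [56, 71, 43, 1, 40, 36],
  [56, 24, 5, 71, 3, 36],
  [56, 46, 5, 70, 3, 36],
  [56, 70, 50, 0, 48, 36],
  [56, 25, 5, 71, 3, 36]]

end Cfsg.Agent.E6Five
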