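import Cfsg.Agent.E6Five.Stab
import Cfsg.Agent.Chev.Twist.E6
import Cfsg.Agent.Chev.SL2Fixed
import Cfsg.Agent.Chev.TopRoot
import Mathlib.Algebra.CharP.Two
import Mathlib.Algebra.CharP.Lemmas

/-!
# The endomorphism of the group over the field with sixteen elements fixing the conjugate of `2E6(2)`
-/

set_option autoImplicit false
set_option maxRecDepth 100000

namespace Cfsg.Agent.E6Five

open Cfsg.Lie Cfsg.Agent.Chev
open scoped MatrixGroups

variable {E : Type} [Field E] [CharP E 2]

/-- The squaring map. -/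
def sq2 (E : Type) [Field E] [CharP E 2] : E →+* E where
  toFun a := a ^ 2
  map_one' := one_pow 2
  map_mul' a b := mul_pow a b 2
  map_zero' := zero_pow two_ne_zero
  map_add' a b := CharTwo.add_sq a b

theorem sq2_apply (a : E) : sq2 E a = a ^ 2 := rfl

theorem e6_orbits4 : OrbitFacts chevE6 e6_flip_π 4 e6Base e6Len :=
  { e6_orbits with len_dvd := fun a => (e6_orbits.len_dvd a).trans (by norm_num) }

/-- The graph automorphism composed with squaring. -/
def tw (h16 : ∀ a : E, a ^ 16 = a) : Twist chevE6 E where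
  hF := facts_chevE6
  π := e6_flip_π
  ρ := e6_flip_ρ
  ε := fun r => e6_flip_E.getD r 0
  hG := e6_flip_facts
  k := 4
  m := 4
  base := e6Base
  len := e6Len
  hO := e6_orbits4
  φ := sq2 E
  hφ := fun t => by
    show (sq2 E ^ 4) t = t
    show sq2 E (sq2 E (sq2 E (sq2 E t))) = t
    rw [sq2_apply, sq2_apply, sq2_apply, sq2_apply, ← pow_mul, ← pow_mul, ← pow_mul]
    exact h16 t

variable (h16 : ∀ a : E, a ^ 16 = a)

/-- The first node. -/
abbrev n0 : Fin chevE6.rank := ⟨0, by decide +kernel⟩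

/-- The last node. -/
abbrev n5 : Fin chevE6.rank := ⟨5, by decide +kernel⟩

/-- The subgroup of the first root. -/
noncomputable def hom1 : Matrix.SpecialLinearGroup (Fin 2) E →* GL chevE6.Idx E :=
  (sl2Simple facts_chevE6 n0).hom

/-- The subgroup of the last root. -/
noncomputable def hom6 : Matrix.SpecialLinearGroup (Fin 2) E →* GL chevE6.Idx E :=
  (sl2Simple facts_chevE6 n5).hom

/-- Squaring the entries. -/
def sqM : Matrix.SpecialLinearGroup (Fin 2) E →* Matrix.SpecialLinearGroup (Fin 2) E :=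
  Matrix.SpecialLinearGroup.map (sq2 E)

theorem neg_eq_self (a : E) : -a = a := CharTwo.neg_eq a

theorem σ_x_two (r : Fin chevE6.nroots) (v : E) :
    (tw h16).σ (xG facts_chevE6 r v) = xG facts_chevE6 ((e6_flip_ρ r : Fin chevE6.nroots) : ℕ) (v ^ 2) := by
  obtain ⟨e, he, h⟩ := (tw h16).σ_x r
  have he1 : e = 1 := by
    rcases he with e' | e'
    · exact e'
    · rw [e', neg_eq_self]
  rw [h, he1, one_mul]
  rfl

theorem flip_simple : (e6_flip_π n0 : ℕ) = 5 ∧ (e6_flip_π n5 : ℕ) = 0 := by decide +kernel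

theorem σ_hom (i j : Fin chevE6.rank) (hij : e6_flip_π i = j) (m : Matrix.SpecialLinearGroup (Fin 2) E) :
    (tw h16).σ ((sl2Simple facts_chevE6 i).hom m) = (sl2Simple facts_chevE6 j).hom (sqM m) := by
  have hm : m ∈ Submonoid.closure (Set.range (SL2Data.upper (F := E)) ∪ {SL2Data.weyl}) := by
    rw [SL2Data.closure_generators]; exact Submonoid.mem_top _
  induction hm using Submonoid.closure_induction with
  | mem x hx =>
    rcases hx with ⟨b, rfl⟩ | rfl
    · have e1 : sqM (SL2Data.upper b) = SL2Data.upper (b ^ 2) := by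
        apply Subtype.ext
        ext a c
        show sq2 E ((SL2Data.upper b).1 a c) = _
        fin_cases a <;> fin_cases c <;> simp [SL2Data.upper, sq2_apply]
      rw [e1]
      show (tw h16).σ ((sl2Simple facts_chevE6 i).toFun (SL2Data.upper b)) =
        (sl2Simple facts_chevE6 j).toFun (SL2Data.upper (b ^ 2))
      rw [SL2Data.toFun_upper, SL2Data.toFun_upper]
      show (tw h16).σ (xG facts_chevE6 (sRoot facts_chevE6 i : ℕ) b) = xG facts_chevE6 (chevE6.simple j) (b ^ 2)
      rw [σ_x_two, show e6_flip_ρ (sRoot facts_chevE6 i) = sRoot facts_chevE6 (e6_flip_π i) from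
        (tw h16).rho_sRoot i, hij]
      rfl
    · have e1 : sqM (SL2Data.weyl (F := E)) = SL2Data.weyl := by
        apply Subtype.ext
        ext a c
        show sq2 E ((SL2Data.weyl (F := E)).1 a c) = _
        fin_cases a <;> fin_cases c <;> simp [SL2Data.weyl, sq2_apply, CharTwo.neg_eq]
      rw [e1]
      show (tw h16).σ ((sl2Simple facts_chevE6 i).toFun SL2Data.weyl) =
        (sl2Simple facts_chevE6 j).toFun SL2Data.weyl
      rw [SL2Data.toFun_weyl, SL2Data.toFun_weyl]
      show (tw h16).σ (nG facts_chevE6 (chevE6.simple i) 1) = nG facts_chevE6 (chevE6.simple j) 1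
      rw [(tw h16).σ_nG_simple, map_one]
      exact congrArg (fun k : Fin chevE6.rank => nG facts_chevE6 (chevE6.simple k) (1 : E)) hij
  | one => rw [map_one, map_one, map_one, map_one]
  | mul x y _ _ hx hy => rw [map_mul, map_mul, hx, hy, map_mul, map_mul]

theorem σ_hom1 (m : Matrix.SpecialLinearGroup (Fin 2) E) :
    (tw h16).σ (hom1 m) = hom6 (sqM m) :=
  σ_hom h16 n0 n5 (Fin.ext flip_simple.1) m

theorem σ_hom6 (m : Matrix.SpecialLinearGroup (Fin 2) E) :
    (tw h16).σ (hom6 m) = hom1 (sqM m) :=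
  σ_hom h16 n5 n0 (Fin.ext flip_simple.2) m

/-- Roots with trivial character. -/
def IsP0 (r : ℕ) : Prop := chiE (row r).2.2 = 0

instance (r : ℕ) : Decidable (IsP0 r) := inferInstanceAs (Decidable (_ = _))

/-- The four roots of the two end nodes. -/
def endRoots : List ℕ := [56, 15, 36, 35]

theorem end_facts : (chevE6.simple 0 = 56 ∧ chevE6.neg 56 = 15 ∧ chevE6.simple 5 = 36 ∧ chevE6.neg 36 = 35) ∧
    ∀ r : Fin chevE6.nroots, IsP0 r → e6_flip_ρ r = r ∧
      ∀ s ∈ endRoots, (r : ℕ) ≠ s ∧ (r : ℕ) ≠ chevE6.neg s ∧ (chevE6.commTerms s r).isEmpty = true := by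
  decide +kernel

theorem end_orth : ∀ r ∈ [56, 15], ∀ s ∈ [36, 35],
    r ≠ chevE6.neg s ∧ r ≠ s ∧ (chevE6.commTerms s r).isEmpty = true := by
  decide +kernel

theorem commute_hom (i : Fin chevE6.rank) (g : GL chevE6.Idx E)
    (hX : ∀ v : E, Commute g (xG facts_chevE6 (chevE6.simple i) v))
    (hY : ∀ v : E, Commute g (xG facts_chevE6 (chevE6.neg (chevE6.simple i)) v))
    (m : Matrix.SpecialLinearGroup (Fin 2) E) : Commute g ((sl2Simple facts_chevE6 i).hom m) := by
  have hm : m ∈ Submonoid.closure (Set.range (SL2Data.upper (F := E)) ∪ {SL2Data.weyl}) := by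
    rw [SL2Data.closure_generators]; exact Submonoid.mem_top _
  induction hm using Submonoid.closure_induction with
  | mem x hx =>
    rcases hx with ⟨b, rfl⟩ | rfl
    · show Commute g ((sl2Simple facts_chevE6 i).toFun (SL2Data.upper b))
      rw [SL2Data.toFun_upper]; exact hX b
    · show Commute g ((sl2Simple facts_chevE6 i).toFun SL2Data.weyl)
      rw [SL2Data.toFun_weyl]
      exact ((hX _).mul_right (hY _)).mul_right (hX _)
  | one => rw [map_one]; exact Commute.one_right g
  | mul x y _ _ hx hy => rw [map_mul]; exact hx.mul_right hy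

theorem hom1_hom6 (m m' : Matrix.SpecialLinearGroup (Fin 2) E) : Commute (hom1 m) (hom6 m') := by
  obtain ⟨⟨h0, h0', h5, h5'⟩, -⟩ := end_facts
  have hn : chevE6.nroots = 72 := nroots_e6
  have key : ∀ r ∈ [56, 15], ∀ v : E, Commute (xG facts_chevE6 r v) (hom6 m') := fun r hr v => by
    have hr' : r < chevE6.nroots := by rw [hn]; fin_cases hr <;> omega
    refine commute_hom n5 _ (fun u => ?_) (fun u => ?_) m'
    · rw [show chevE6.simple (n5 : ℕ) = 36 from h5]
      obtain ⟨a, -, b⟩ := end_orth r hr 36 (by decide)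
      exact xG_commute_of facts_chevE6 (by rw [hn]; omega) hr' (Or.inr ⟨a, List.isEmpty_iff.1 b⟩) u v
    · rw [show chevE6.simple (n5 : ℕ) = 36 from h5, h5']
      obtain ⟨a, -, b⟩ := end_orth r hr 35 (by decide)
      exact xG_commute_of facts_chevE6 (by rw [hn]; omega) hr' (Or.inr ⟨a, List.isEmpty_iff.1 b⟩) u v
  refine (commute_hom n0 _ (fun u => ?_) (fun u => ?_) m).symm
  · rw [show chevE6.simple (n0 : ℕ) = 56 from h0]; exact (key 56 (by decide) u).symm
  · rw [show chevE6.simple (n0 : ℕ) = 56 from h0, h0']; exact (key 15 (by decide) u).symm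

theorem nS0_commute {r : Fin chevE6.nroots} (hr : IsP0 r) (v : E) :
    Commute (nS facts_chevE6 0 : GL chevE6.Idx E) (xG facts_chevE6 r v) := by
  obtain ⟨⟨h0, h0', -, -⟩, h⟩ := end_facts
  have hn : chevE6.nroots = 72 := nroots_e6
  have key : ∀ s ∈ [56, 15], ∀ u : E, Commute (xG facts_chevE6 s u) (xG facts_chevE6 r v) := fun s hs u => by
    obtain ⟨a, b, c⟩ := (h r hr).2 s (by fin_cases hs <;> decide)
    exact (xG_commute_of facts_chevE6 (by rw [hn]; fin_cases hs <;> omega) r.2
      (Or.inr ⟨b, List.isEmpty_iff.1 c⟩) u v).symm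
  rw [nS, nG, h0, h0']
  exact ((key 56 (by decide) _).mul_left (key 15 (by decide) _)).mul_left (key 56 (by decide) _)

/-- The endomorphism fixing the conjugate. -/
noncomputable def τ : GL chevE6.Idx E →* GL chevE6.Idx E :=
  (MulAut.conj (nS facts_chevE6 0 : GL chevE6.Idx E)).toMonoidHom.comp (tw h16).σ

theorem τ_apply (g : GL chevE6.Idx E) :
    τ h16 g = nS facts_chevE6 0 * (tw h16).σ g * (nS facts_chevE6 0)⁻¹ := rfl

theorem τ_x {r : Fin chevE6.nroots} (hr : IsP0 r) (v : E) :
    τ h16 (xG facts_chevE6 r v) = xG facts_chevE6 r (v ^ 2) := by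
  rw [τ_apply, σ_x_two, (end_facts.2 r hr).1, (nS0_commute hr _).eq, mul_inv_cancel_right]

theorem τ_x' {r : ℕ} (hr : r < chevE6.nroots) (h : IsP0 r) (v : E) :
    τ h16 (xG facts_chevE6 r v) = xG facts_chevE6 r (v ^ 2) := τ_x h16 (r := ⟨r, hr⟩) h v

/-- The three roots whose reflections generate the stabiliser. -/
theorem three_facts : ∀ g ∈ [39, 46, 71], g < chevE6.nroots ∧ IsP0 g ∧ IsP0 (chevE6.neg g) := by
  decide +kernel

theorem τ_nG {g : ℕ} (hg : g ∈ [39, 46, 71]) :
    τ h16 (nG facts_chevE6 g (1 : E)) = nG facts_chevE6 g 1 := by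
  obtain ⟨h1, h2, h3⟩ := three_facts g hg
  have hn := neg_lt facts_chevE6.{0} h1
  simp only [nG, map_mul, τ_x' h16 h1 h2, τ_x' h16 hn h3, neg_eq_self, inv_one, one_pow]

/-- The word of a reflection over the index type. -/
def fw6 (l : List Nat) : List (Fin chevE6.rank) :=
  l.filterMap fun j => if h : j < chevE6.rank then some ⟨j, h⟩ else none

theorem fw6_append (a b : List Nat) : fw6 (a ++ b) = fw6 a ++ fw6 b := List.filterMap_append

theorem nS_sq (i : Fin chevE6.rank) : (nS facts_chevE6 (i : ℕ) : GL chevE6.Idx E)⁻¹ = nS facts_chevE6 (i : ℕ) := by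
  rw [nS, nG_inv, neg_eq_self]

theorem nWord_rev (l : List (Fin chevE6.rank)) :
    (nWord facts_chevE6 l.reverse : GL chevE6.Idx E) = (nWord facts_chevE6 l)⁻¹ := by
  induction l with
  | nil => simp [nWord]
  | cons i l ih =>
    rw [List.reverse_cons, nWord_append, ih, nWord_cons facts_chevE6 i l, mul_inv_rev]
    congr 1
    rw [nWord_cons, nS_sq, show (nWord facts_chevE6 ([] : List (Fin chevE6.rank)) : GL chevE6.Idx E) = 1 from rfl, mul_one]

theorem top_facts : topU.foldr (fun j s => chevE6.reflectRoot j s) (chevE6.simple topI) = 71 ∧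
    (∀ j ∈ topU, j < chevE6.rank) ∧ topI < chevE6.rank ∧
    chevE6.simple 3 = 39 ∧ chevE6.simple 1 = 46 := by
  decide +kernel

theorem fw6_pWord_val (l : List Nat) (hl : ∀ j ∈ l, j < chevE6.rank) (r : Fin chevE6.nroots) :
    (pWord facts_chevE6.{0} (fw6 l) r : ℕ) = l.foldr (fun j s => chevE6.reflectRoot j s) (r : ℕ) := by
  induction l with
  | nil => rfl
  | cons j l ih =>
    rw [List.forall_mem_cons] at hl
    rw [fw6, List.filterMap_cons, dif_pos hl.1]
    simp only [pWord_cons, Equiv.Perm.mul_apply, wPerm_val, List.foldr_cons]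
    exact congrArg _ (ih hl.2)

theorem nWord_blk {g : ℕ} (hg : g ∈ [39, 46, 71]) :
    (nWord facts_chevE6 (fw6 (blk g)) : GL chevE6.Idx E) = nG facts_chevE6 g 1 := by
  obtain ⟨htop, hu, hi, h3, h1⟩ := top_facts
  fin_cases hg
  · show nWord facts_chevE6 [(⟨3, by decide +kernel⟩ : Fin chevE6.rank)] = _
    rw [nWord_cons]
    show nS facts_chevE6 3 * 1 = _
    rw [mul_one, nS, h3]
  · show nWord facts_chevE6 [(⟨1, by decide +kernel⟩ : Fin chevE6.rank)] = _
    rw [nWord_cons]
    show nS facts_chevE6 1 * 1 = _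
    rw [mul_one, nS, h1]
  · show nWord facts_chevE6 (fw6 (topU ++ topI :: topU.reverse)) = _
    have e1 : fw6 (topU ++ topI :: topU.reverse) =
        fw6 topU ++ (⟨topI, hi⟩ : Fin chevE6.rank) :: (fw6 topU).reverse := by
      rw [fw6_append]
      congr 1
    rw [e1, nWord_append, nWord_cons, nWord_rev]
    obtain ⟨e, he, h⟩ := nWord_conj_nG facts_chevE6 (fw6 topU) (sRoot facts_chevE6.{0} ⟨topI, hi⟩) (F := E)
    have he1 : e = 1 := by
      rcases he with e' | e'
      · exact e'
      · rw [e', neg_eq_self]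
    have h' := h 1
    rw [he1, one_mul, fw6_pWord_val topU hu] at h'
    change _ * nS facts_chevE6 topI = nG facts_chevE6 (topU.foldr _ (chevE6.simple topI)) 1 * _ at h'
    rw [htop] at h'
    rw [← mul_assoc, h', mul_inv_cancel_right]

theorem wgl_mem : ∀ idx : Fin 24, ∀ g ∈ wgl.getD idx [], g ∈ [39, 46, 71] := by decide +kernel

theorem τ_nWord (idx : Fin 24) :
    τ h16 (nWord facts_chevE6 (wordF idx) : GL chevE6.Idx E) = nWord facts_chevE6 (wordF idx) := by
  have h := wgl_mem idx
  show τ h16 (nWord facts_chevE6 (fw6 ((wgl.getD idx []).flatMap blk))) = nWord facts_chevE6 (fw6 ((wgl.getD idx []).flatMap blk))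
  revert h
  generalize wgl.getD (idx : ℕ) [] = L
  intro h
  induction L with
  | nil => exact map_one _
  | cons g L ih =>
    rw [List.forall_mem_cons] at h
    rw [List.flatMap_cons, fw6_append, nWord_append, map_mul, ih h.2, nWord_blk h.1, τ_nG h16 h.1]

end Cfsg.Agent.E6Five
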