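import Cfsg.Agent.E6Five.Tau
import Cfsg.Agent.Chev.Twist.E6Main
import Mathlib.RingTheory.IntegralDomain
import Mathlib.FieldTheory.Finite.Basic

/-!
# The torus elements fixed by the endomorphism: at most five
-/

set_option autoImplicit false
set_option maxRecDepth 100000

namespace Cfsg.Agent.E6Five

open Cfsg.Lie Cfsg.Agent.Chev
open scoped MatrixGroups

variable {E : Type} [Field E] [CharP E 2]

theorem chiU_mul' (c d : Fin chevE6.rank → Eˣ) (r : ℕ) : chiU (c * d) r = chiU c r * chiU d r := by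
  simp [chiU, mul_zpow, Finset.prod_mul_distrib]

theorem chiU_inv' (c : Fin chevE6.rank → Eˣ) (r : ℕ) : chiU c⁻¹ r = (chiU c r)⁻¹ := by
  rw [eq_inv_iff_mul_eq_one, ← chiU_mul', inv_mul_cancel]
  simp [chiU]

theorem eq_of_simple_eq {c d : Fin chevE6.rank → Eˣ}
    (h : ∀ i : Fin chevE6.rank, chiU c (chevE6.simple i) = chiU d (chevE6.simple i)) :
    (torusHom c : GL chevE6.Idx E) = torusHom d := by
  have hF : Facts.{0} chevE6 := facts_chevE6
  rw [← mul_inv_eq_one, ← map_inv, ← map_mul]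
  refine (torusHom_eq_one_iff _).2 fun r => ?_
  refine hF.root_induction (fun r => chiU (c * d⁻¹) r = 1) (fun i hi => ?_) (fun i hi r hr ih => ?_) r r.2
  · rw [chiU_mul', chiU_inv', show chevE6.simple i = chevE6.simple ((⟨i, hi⟩ : Fin chevE6.rank) : ℕ) from rfl,
      h, mul_inv_cancel]
  · have h0 : chiU (c * d⁻¹) (chevE6.simple i) = 1 := by
      rw [chiU_mul', chiU_inv', show chevE6.simple i = chevE6.simple ((⟨i, hi⟩ : Fin chevE6.rank) : ℕ) from rfl,
        h, mul_inv_cancel]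
    rw [← ih]
    simp only [chiU]
    rw [← mul_right_inj (∏ j : Fin chevE6.rank, (c * d⁻¹) j ^ chevE6.cartan j r)⁻¹, inv_mul_cancel,
      ← Finset.prod_inv_distrib, ← Finset.prod_mul_distrib]
    have key : ∀ j : Fin chevE6.rank, ((c * d⁻¹) j ^ chevE6.cartan j r)⁻¹ *
        (c * d⁻¹) j ^ chevE6.cartan j (chevE6.reflectRoot i r) =
          ((c * d⁻¹) j ^ chevE6.cartan j (chevE6.simple i)) ^ (-chevE6.cartan i r) := fun j => by
      rw [hF.cartan_refl i hi r hr j j.2, ← zpow_neg, ← zpow_add, ← zpow_mul]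
      congr 1; ring
    simp only [key]
    rw [Finset.prod_zpow]
    change chiU (c * d⁻¹) (chevE6.simple i) ^ _ = 1
    rw [h0, one_zpow]

theorem rho_facts : (e6_flip_π.symm n0 : ℕ) = 5 ∧
    ∀ i : Fin chevE6.rank, (e6_flip_π i : ℕ) = [5, 1, 4, 3, 2, 0].getD i 0 := by
  decide +kernel

variable (h16 : ∀ a : E, a ^ 16 = a)

/-- The parameters of the image of a torus element. -/
noncomputable def τt (c : Fin chevE6.rank → Eˣ) : Fin chevE6.rank → Eˣ :=
  (tw h16).σt c * Pi.mulSingle n0 (chiU ((tw h16).σt c) (chevE6.simple 0))⁻¹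

theorem τ_torus (c : Fin chevE6.rank → Eˣ) :
    τ h16 (torusHom c) = torusHom (τt h16 c) := by
  have e : ((tw h16).σ (torusHom c) : GL chevE6.Idx E) = torusHom ((tw h16).σt c) := (tw h16).σ_torusHom c
  rw [τ_apply, e, nS_conj_torus facts_chevE6 (show 0 < chevE6.rank by decide +kernel), mul_inv_cancel_right]
  rfl

theorem chiU_σt (c : Fin chevE6.rank → Eˣ) (i : Fin chevE6.rank) :
    chiU ((tw h16).σt c) (chevE6.simple (e6_flip_π i)) = chiU c (chevE6.simple i) ^ 2 := by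
  have h1 := (tw h16).chiU_perm c (sRoot facts_chevE6 i)
  have h2 : ((tw h16).ρ (sRoot facts_chevE6 i) : ℕ) = chevE6.simple (e6_flip_π i) :=
    congrArg Fin.val ((tw h16).rho_sRoot i)
  rw [h2] at h1
  have h3 : (tw h16).σt c = (fun j => c ((tw h16).π.symm j)) * fun j => c ((tw h16).π.symm j) := by
    funext j
    apply Units.ext
    show ((c ((tw h16).π.symm j) : Eˣ) : E) ^ 2 = _
    rw [sq]; rfl
  rw [h3, chiU_mul', h1, sq]
  rfl

theorem cartan_zero : ∀ i : Fin chevE6.rank,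
    chevE6.cartan 0 (chevE6.simple i) = [2, 0, -1, 0, 0, 0].getD i 0 := by decide +kernel

theorem chiU_τt (c : Fin chevE6.rank → Eˣ) (i : Fin chevE6.rank) :
    chiU (τt h16 c) (chevE6.simple (e6_flip_π i)) = chiU c (chevE6.simple i) ^ 2 *
      ((chiU c (chevE6.simple 5) ^ 2)⁻¹) ^ chevE6.cartan 0 (chevE6.simple (e6_flip_π i)) := by
  have h5 : chiU ((tw h16).σt c) (chevE6.simple 0) = chiU c (chevE6.simple 5) ^ 2 := by
    have := chiU_σt h16 c n5
    rwa [show (e6_flip_π n5 : ℕ) = 0 from flip_simple.2] at this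
  rw [τt, chiU_mul', chiU_σt, chiU_mulSingle (n0 : Fin chevE6.rank).2, h5]

theorem lincomb : ∀ j : Fin chevE6.rank,
    4 * chevE6.cartan j (chevE6.simple 0) + 3 * chevE6.cartan j (chevE6.simple 1) +
      5 * chevE6.cartan j (chevE6.simple 2) + 6 * chevE6.cartan j (chevE6.simple 3) +
      4 * chevE6.cartan j (chevE6.simple 4) + 2 * chevE6.cartan j (chevE6.simple 5) =
      if (j : ℕ) = 0 then 3 else 0 := by
  decide +kernel

variable [Fintype E] (hcard : Fintype.card E = 16)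
include hcard

theorem cube_condition (c : Fin chevE6.rank → Eˣ) :
    (chiU c (chevE6.simple 0) ^ (4 : ℤ) * chiU c (chevE6.simple 1) ^ (3 : ℤ) *
      chiU c (chevE6.simple 2) ^ (5 : ℤ) * chiU c (chevE6.simple 3) ^ (6 : ℤ) *
      chiU c (chevE6.simple 4) ^ (4 : ℤ) * chiU c (chevE6.simple 5) ^ (2 : ℤ)) ^ 5 = 1 := by
  classical
  have h : chiU c (chevE6.simple 0) ^ (4 : ℤ) * chiU c (chevE6.simple 1) ^ (3 : ℤ) *
      chiU c (chevE6.simple 2) ^ (5 : ℤ) * chiU c (chevE6.simple 3) ^ (6 : ℤ) *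
      chiU c (chevE6.simple 4) ^ (4 : ℤ) * chiU c (chevE6.simple 5) ^ (2 : ℤ) = c n0 ^ (3 : ℤ) := by
    simp only [chiU, ← Finset.prod_zpow, ← Finset.prod_mul_distrib, ← zpow_mul, ← zpow_add]
    rw [Finset.prod_eq_single n0]
    · congr 1
    · intro j _ hj
      have := lincomb j
      rw [if_neg (fun e => hj (Fin.ext e))] at this
      rw [show chevE6.cartan j (chevE6.simple 0) * 4 + chevE6.cartan j (chevE6.simple 1) * 3 +
          chevE6.cartan j (chevE6.simple 2) * 5 + chevE6.cartan j (chevE6.simple 3) * 6 +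
          chevE6.cartan j (chevE6.simple 4) * 4 + chevE6.cartan j (chevE6.simple 5) * 2 = 0 by linarith,
        zpow_zero]
    · intro h; exact absurd (Finset.mem_univ _) h
  rw [h, ← zpow_natCast, ← zpow_mul]
  have h15 : c n0 ^ 15 = 1 := by
    have := pow_card_eq_one (x := c n0)
    rwa [Fintype.card_units, hcard] at this
  rw [show ((3 : ℤ) * ((5 : ℕ) : ℤ)) = ((15 : ℕ) : ℤ) by norm_num, zpow_natCast, h15]

theorem fixed_params {c : Fin chevE6.rank → Eˣ}
    (hc : τ h16 (torusHom c : GL chevE6.Idx E) = torusHom c) :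
    chiU c (chevE6.simple 2) ^ 5 = 1 ∧ ∀ i : Fin chevE6.rank, chiU c (chevE6.simple i) =
      chiU c (chevE6.simple 2) ^ [3, 0, 1, 0, 2, 6].getD i 0 := by
  rw [τ_torus] at hc
  have hF : Facts.{0} chevE6 := facts_chevE6
  have he : ∀ r : Fin chevE6.nroots, chiU (τt h16 c) r = chiU c r := fun r => by
    have := (torusHom_eq_one_iff (τt h16 c * c⁻¹)).1 (by rw [map_mul, map_inv, hc, mul_inv_cancel]) r
    rw [chiU_mul', chiU_inv', mul_inv_eq_one] at this
    exact this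
  have eq : ∀ i : Fin chevE6.rank, chiU c (chevE6.simple (e6_flip_π i)) = chiU c (chevE6.simple i) ^ 2 *
      ((chiU c (chevE6.simple 5) ^ 2)⁻¹) ^ chevE6.cartan 0 (chevE6.simple (e6_flip_π i)) := fun i => by
    rw [← chiU_τt h16 c i]
    exact (he ⟨_, hF.simple_lt _ (e6_flip_π i).2⟩).symm
  simp only [cartan_zero, rho_facts.2] at eq
  set a0 := chiU c (chevE6.simple 0)
  set a1 := chiU c (chevE6.simple 1)
  set a2 := chiU c (chevE6.simple 2)
  set a3 := chiU c (chevE6.simple 3)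
  set a4 := chiU c (chevE6.simple 4)
  set a5 := chiU c (chevE6.simple 5)
  have e0 := eq ⟨5, by decide +kernel⟩
  have e1 := eq ⟨1, by decide +kernel⟩
  have e2 := eq ⟨4, by decide +kernel⟩
  have e3 := eq ⟨3, by decide +kernel⟩
  have e4 := eq ⟨2, by decide +kernel⟩
  have e5 := eq ⟨0, by decide +kernel⟩
  change a0 = a5 ^ 2 * ((a5 ^ 2)⁻¹) ^ (2 : ℤ) at e0
  change a1 = a1 ^ 2 * ((a5 ^ 2)⁻¹) ^ (0 : ℤ) at e1
  change a2 = a4 ^ 2 * ((a5 ^ 2)⁻¹) ^ (-1 : ℤ) at e2
  change a3 = a3 ^ 2 * ((a5 ^ 2)⁻¹) ^ (0 : ℤ) at e3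
  change a4 = a2 ^ 2 * ((a5 ^ 2)⁻¹) ^ (0 : ℤ) at e4
  change a5 = a0 ^ 2 * ((a5 ^ 2)⁻¹) ^ (0 : ℤ) at e5
  rw [zpow_zero, mul_one] at e1 e3 e4 e5
  rw [zpow_neg, zpow_one, inv_inv] at e2
  rw [zpow_two, ← mul_assoc, mul_inv_cancel, one_mul, eq_inv_iff_mul_eq_one] at e0
  rw [sq] at e1 e3
  have f1 : a1 = 1 := mul_eq_left.1 e1.symm
  have f3 : a3 = 1 := mul_eq_left.1 e3.symm
  have f0 : a0 ^ 5 = 1 := by rw [e5, ← pow_mul] at e0; rw [pow_succ']; exact e0
  have f2 : a0 = a2 ^ 3 := by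
    have h4 : a2 = a2 ^ 4 * a0 ^ 4 := by
      conv_lhs => rw [e2, e4, e5, ← pow_mul, ← pow_mul]
    rw [pow_succ a2 3, mul_comm (a2 ^ 3) a2, mul_assoc, left_eq_mul] at h4
    exact (mul_right_cancel (h4.trans (by rw [← pow_succ', f0]) : a2 ^ 3 * a0 ^ 4 = a0 * a0 ^ 4)).symm
  have f5 : a5 = a2 ^ 6 := by rw [e5, f2, ← pow_mul]
  have hcube := cube_condition hcard c
  change (a0 ^ (4 : ℤ) * a1 ^ (3 : ℤ) * a2 ^ (5 : ℤ) * a3 ^ (6 : ℤ) * a4 ^ (4 : ℤ) * a5 ^ (2 : ℤ)) ^ 5 = 1 at hcube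
  simp only [f1, f3, one_zpow, one_pow, mul_one, zpow_ofNat, f2, e4, f5, ← pow_mul, ← pow_add] at hcube
  have h15 : a2 ^ 15 = 1 := by
    classical
    have := pow_card_eq_one (x := a2)
    rwa [Fintype.card_units, hcard] at this
  refine ⟨?_, fun i => ?_⟩
  · have e : a2 ^ 185 = (a2 ^ 15) ^ 12 * a2 ^ 5 := by rw [← pow_mul, ← pow_add]
    rw [h15, one_pow, one_mul] at e
    rw [← e]
    exact hcube
  · have hi : (i : ℕ) < 6 := i.2
    obtain ⟨i, _⟩ := i
    dsimp only at hi ⊢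
    interval_cases i
    · exact f2
    · rw [show [3, 0, 1, 0, 2, 6].getD 1 0 = 0 from rfl, pow_zero]; exact f1
    · exact (pow_one _).symm
    · rw [show [3, 0, 1, 0, 2, 6].getD 3 0 = 0 from rfl, pow_zero]; exact f3
    · exact e4
    · exact f5

/-- The fixed torus elements. -/
def H5 : Set (GL chevE6.Idx E) := {h | ∃ c, h = torusHom c ∧ τ h16 h = h}

theorem card_H5 : Nat.card (H5 h16) ≤ 5 := by
  classical
  have hp : ∀ p : H5 h16, ∃ c, (p : GL chevE6.Idx E) = torusHom c ∧ τ h16 (torusHom c) = torusHom c := fun p => by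
    obtain ⟨c, hc, hf⟩ := p.2
    exact ⟨c, hc, hc ▸ hf⟩
  choose c hc hfix using hp
  let f : H5 h16 → ↥(powMonoidHom 5 : Eˣ →* Eˣ).ker := fun p =>
    ⟨chiU (c p) (chevE6.simple 2), MonoidHom.mem_ker.2 (fixed_params h16 hcard (hfix p)).1⟩
  have hf : Function.Injective f := fun p q e => by
    apply Subtype.ext
    rw [hc p, hc q]
    refine eq_of_simple_eq fun i => ?_
    rw [(fixed_params h16 hcard (hfix p)).2 i, (fixed_params h16 hcard (hfix q)).2 i]
    rw [show chiU (c p) (chevE6.simple 2) = chiU (c q) (chevE6.simple 2) from congrArg Subtype.val e]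
  refine (Nat.card_le_card_of_injective f hf).trans ?_
  rw [IsCyclic.card_powMonoidHom_ker, Nat.card_eq_fintype_card, Fintype.card_units, hcard]
  decide

end Cfsg.Agent.E6Five
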